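import Cfsg.Agent.Lib.Perm.Trans.UnitMax
import Cfsg.Agent.Lib.Perm.Trans.UnitSubfMax

/-!
# Stabilisers of anisotropic points are maximal from dimension four on
-/

set_option autoImplicit false
set_option linter.all false

namespace CfsgLib.Perm.Trans.Unit

open scoped Matrix
open Matrix Cfsg.Geo CfsgLib.Perm.Asch CfsgLib.Perm.Trans

variable {ι : Type} [Fintype ι] [DecidableEq ι] {F : Type*} [Field F] [Fintype F]
variable {σ : F ≃+* F} {f : (ι → F) → (ι → F) → F} (hf : IsUnitaryForm σ f)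
include hf

/-- stabilisers of nondegenerate points are maximal -/
theorem point_subspace_maximal (hn : 4 ≤ Fintype.card ι) {W : Submodule F (ι → F)}
    (hW : IsNondegenerateOn f W) (hdim : Module.finrank F W = 1) :
    IsMaximalIn (isoU f ⊓ specialLinear ι F) (subspaceStabilizer W ⊓ (isoU f ⊓ specialLinear ι F)) := by
  have hP := isNondegenerateOn_perp hf hW
  have hsum := finrank_add_perp hf hW
  have hPdim : 3 ≤ Module.finrank F (perp hf W) := by omega
  have hW0 : W ≠ ⊥ := fun h => by rw [h, finrank_bot] at hdim; exact zero_ne_one hdim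
  obtain ⟨a, ha, haa⟩ := exists_anisotropic hf hW hW0
  have ha0 : a ≠ 0 := fun h => haa (by rw [h, herm_zero_left hf])
  have hline : ∀ x ∈ W, ∃ c : F, x = c • a := fun x hx => by
    have hle : Submodule.span F {a} = W := Submodule.eq_of_le_of_finrank_le
      ((Submodule.span_singleton_le_iff_mem a W).2 ha) (by rw [hdim, finrank_span_singleton ha0])
    rw [← hle] at hx
    obtain ⟨c, rfl⟩ := Submodule.mem_span_singleton.1 hx
    exact ⟨c, rfl⟩
  obtain ⟨δ, hδ, hδσ⟩ := exists_trace_zero hf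
  have hsplit : ∀ c : F, ∀ b ∈ perp hf W, f (c • a + b) (c • a + b) = c * σ c * f a a + f b b := by
    intro c b hb
    rw [hf.add_left, herm_add_right hf, herm_add_right hf, hf.smul_left, hf.smul_left, herm_smul_right hf,
      herm_smul_right hf, hb a ha, herm_swap_zero hf (hb a ha)]
    ring
  refine isMaximalIn_of_centres hf hn (fun hle => ?_) fun M hHM hM hMW => ?_
  · obtain ⟨p, hp, hpp⟩ := exists_anisotropic hf hP (fun h => by rw [h, finrank_bot] at hPdim; omega)
    obtain ⟨c, hc⟩ := exists_norm hf (d := -f a a / f p p) (by rw [map_div₀, map_neg, ← hf.herm, ← hf.herm])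
    have hc0 : c ≠ 0 := fun h => by
      rw [h, zero_mul, eq_comm, div_eq_zero_iff, neg_eq_zero] at hc
      exact hc.elim haa hpp
    obtain ⟨u, hu⟩ : ∃ u, u = a + c • p := ⟨_, rfl⟩
    have hcp : c • p ∈ perp hf W := (perp hf W).smul_mem c hp
    have hpa : f (c • p) a = 0 := hcp a ha
    have huu : f u u = 0 := by
      have h := hsplit 1 _ hcp
      rw [one_smul, map_one, one_mul, one_mul, hf.smul_left c p (c • p), herm_smul_right hf, ← mul_assoc, hc,
        div_mul_cancel₀ _ hpp, add_neg_cancel, ← hu] at h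
      exact h
    have h0 := utv_orth hf huu δ
    have hiff : a ∈ W ↔ (tv u (δ • hv hf u) h0 : Matrix ι ι F) *ᵥ a ∈ W :=
      hle ⟨mem_isoU.2 (utv_isometry hf u huu hδσ h0), tv_mem_SL _ _ _⟩ a
    have h1 := hiff.1 ha
    rw [tv_mulVec, smul_dotProduct, hv_dot, hu, herm_add_right hf, herm_swap_zero hf hpa, add_zero, smul_eq_mul,
      W.add_mem_iff_right ha, W.smul_mem_iff (mul_ne_zero hδ haa), W.add_mem_iff_right ha] at h1
    have h2 := disjoint_perp hf hW h1 hcp
    rw [h2, add_zero] at hu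
    exact haa (hu ▸ huu)
  have hMiso : M ≤ isoU f := fun g hg => (hM hg).1
  have hPc : ∀ u ∈ perp hf W, f u u = 0 → u ∈ centres hf M := fun u hu huu =>
    mem_centres_of_stab hf hHM huu fun c h0 => stab_of_centre hf (Or.inr hu) c h0
  -- one mixed centre
  obtain ⟨g, hgM, hg⟩ := SetLike.not_le_iff_exists.1 hMW
  obtain ⟨x, hxA, hxP⟩ : ∃ x, x ∈ centres hf M ∧ x ∉ perp hf W := by
    by_contra hcon
    push Not at hcon
    obtain ⟨e, he, he0, hee⟩ := exists_isotropic hf (W := perp hf W) (by omega)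
    obtain ⟨y, hy, hey⟩ := (hP e he he0).2
    obtain ⟨h, hh, hhh, heh, -⟩ := exists_partner hf he hee hy hey
    have hside : ∀ z ∈ perp hf W, f z z = 0 → (g : Matrix ι ι F) *ᵥ z ∈ perp hf W := fun z hz hzz =>
      hcon _ (centres_conj hf hMiso hgM (hPc z hz hzz))
    have hgP : ∀ z ∈ perp hf W, (g : Matrix ι ι F) *ᵥ z ∈ perp hf W := by
      intro z hz
      have hle := subspace_le_of_pair hf (S := (perp hf W).comap (Matrix.toLin' (g : Matrix ι ι F))) he hee hh hhh heh
        (by simpa [Matrix.toLin'_apply] using hside e he hee) (fun z hz hzz _ => by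
          simpa [Matrix.toLin'_apply] using hside z hz hzz)
      simpa [Matrix.toLin'_apply] using hle hz
    have hgP' : g ∈ subspaceStabilizer (perp hf W) := by
      by_contra hn'
      obtain ⟨q, hq, hgq⟩ := exists_moved_of_not_stab hn'
      exact hgq (hgP q hq)
    obtain ⟨w, hw, hgw⟩ := exists_moved_of_not_stab hg
    refine hgw (perp_perp hf hW fun p hp => ?_)
    have hp' : ((g⁻¹ : GL ι F) : Matrix ι ι F) *ᵥ p ∈ perp hf W :=
      (((subspaceStabilizer (perp hf W)).inv_mem hgP') p).1 hp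
    rw [← gl_mulVec_inv g p, mem_isoU.1 (hMiso hgM)]
    exact herm_swap_zero hf (hp' w hw)
  obtain ⟨x₁, hx₁, hb₁⟩ := exists_decomp hf hW x
  obtain ⟨c₁, rfl⟩ := hline x₁ hx₁
  obtain ⟨b₁, hb₁d⟩ : ∃ b, b = x - c₁ • a := ⟨_, rfl⟩
  rw [← hb₁d] at hb₁
  have hx : x = c₁ • a + b₁ := by rw [hb₁d]; abel
  rw [hx] at hxA hxP
  have hc₁ : c₁ ≠ 0 := fun h => hxP (by rw [h, zero_smul, zero_add]; exact hb₁)
  intro u huu
  obtain ⟨x₂, hx₂, hb⟩ := exists_decomp hf hW u
  obtain ⟨c, rfl⟩ := hline x₂ hx₂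
  obtain ⟨b, hbd⟩ : ∃ b, b = u - c • a := ⟨_, rfl⟩
  rw [← hbd] at hb
  have hu : u = c • a + b := by rw [hbd]; abel
  rw [hu] at huu ⊢
  rcases eq_or_ne c 0 with rfl | hc
  · rw [zero_smul, zero_add] at huu ⊢
    exact hPc b hb huu
  -- scale, then move inside `perp W`
  have hsc := centres_smul hf hxA (c / c₁)
  rw [smul_add, smul_smul, div_mul_cancel₀ _ hc₁] at hsc
  obtain ⟨b₂, hb₂d⟩ : ∃ b₂, b₂ = (c / c₁) • b₁ := ⟨_, rfl⟩
  rw [← hb₂d] at hsc
  have hb₂ : b₂ ∈ perp hf W := hb₂d ▸ (perp hf W).smul_mem _ hb₁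
  have hN : f b₂ b₂ = f b b := by
    have h1 := hsc.1
    rw [hsplit c b₂ hb₂] at h1
    rw [hsplit c b hb] at huu
    linear_combination h1 - huu
  have hne : f b₂ b₂ ≠ 0 := by
    intro h0
    have h1 := hsc.1
    rw [hsplit c b₂ hb₂, h0, add_zero, mul_eq_zero, or_iff_left haa] at h1
    exact mul_ne_zero hc (by simpa using hc) h1
  obtain ⟨k, hk, hkb⟩ := fixU_norm_move hf hP (by omega) hb₂ hb hN hne
  have hkW : ∀ z ∈ W, (k : Matrix ι ι F) *ᵥ z = z := fun z hz =>
    hk.2 z fun w hw => herm_swap_zero hf (hw z hz)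
  have hkM : k ∈ M := hHM ⟨by
    by_contra hn'
    obtain ⟨q, hq, hgq⟩ := exists_moved_of_not_stab hn'
    exact hgq (by rw [hkW q hq]; exact hq), hk.1⟩
  have h2 := centres_conj hf hMiso hkM hsc
  rwa [mulVec_add, hkb, hkW _ (W.smul_mem c ha)] at h2

end CfsgLib.Perm.Trans.Unit
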