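import Cfsg.Agent.Lib.Perm.Trans.UnitFour.OrthRat

/-!
# Orthogonal subfield subgroups are maximal in four dimensional special unitary groups

A nonzero centre gives a rational centre, and a rational centre gives every isotropic vector.
-/

set_option autoImplicit false
set_option linter.all false

namespace CfsgLib.Perm.Trans.Unit.ORat

open scoped Matrix
open Matrix Cfsg.Geo CfsgLib.Perm.Asch CfsgLib.Perm.Trans
open CfsgLib.Perm.Trans.Subf (em_add em_neg em_sub em_smul em_zero em_injective em_ne_zero)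

variable {ι : Type} [Fintype ι] [DecidableEq ι] {F : Type*} [Field F] [Fintype F]
variable {σ : F ≃+* F} {f : (ι → F) → (ι → F) → F} {F₀ : Subfield F} {P : GL ι F} {θ : F}

local notation "em'" => CfsgLib.Perm.Trans.Subf.em

variable (D : OD σ f F₀ P θ) {M : Subgroup (GL ι F)}
variable (hM : M ≤ isoU f) (hHM : subfieldSubgroup F₀ P ⊓ (isoU f ⊓ specialLinear ι F) ≤ M)
variable (h4 : Fintype.card ι = 4) (hq : 5 ≤ Nat.card F₀)
include D hM hHM h4 hq

/-- a centre in a nondegenerate rational plane gives a rational centre -/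
theorem centre_of_plane {x x' : ι → F₀} (hxx' : rb D x x' = 0) (hX : rb D x x ≠ 0) (hX' : rb D x' x' ≠ 0) {μ₀ : F}
    (hC : em' F₀ P x' + μ₀ • em' F₀ P x ∈ centres D.form M) :
    ∃ u, u ≠ 0 ∧ rb D u u = 0 ∧ em' F₀ P u ∈ centres D.form M := by
  have hs := rb_symmetric D
  have h2 := two' D
  have hx'x : rb D x' x = 0 := (hs.symm _ _).trans hxx'
  have hcoe : ∀ c : F₀, (c : F) = 0 → c = 0 := fun c h => Subtype.ext h
  have f1 : f (em' F₀ P x) (em' F₀ P x) = (rb D x x : F₀) := rfl
  have f2 : f (em' F₀ P x') (em' F₀ P x') = (rb D x' x' : F₀) := rfl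
  have f3 : f (em' F₀ P x) (em' F₀ P x') = 0 := by rw [← rb_coe D, hxx']; rfl
  have f4 : f (em' F₀ P x') (em' F₀ P x) = 0 := by rw [← rb_coe D, hx'x]; rfl
  have hform : ∀ μ ν : F, f (em' F₀ P x' + μ • em' F₀ P x) (em' F₀ P x' + ν • em' F₀ P x) =
      (rb D x' x' : F₀) + μ * σ ν * (rb D x x : F₀) := fun μ ν => by
    rw [D.form.add_left, herm_add_right D.form, herm_add_right D.form, D.form.smul_left, D.form.smul_left,
      herm_smul_right D.form, herm_smul_right D.form, f1, f2, f3, f4]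
    ring
  have hN₀ := hC.1
  rw [hform] at hN₀
  have hμ₀ : μ₀ ≠ 0 := fun h => hX' (hcoe _ (by rw [h] at hN₀; simpa using hN₀))
  have hd : rb D x' x' * rb D x x - rb D x' x * rb D x' x ≠ 0 := by
    rw [hx'x, mul_zero, sub_zero]; exact mul_ne_zero hX' hX
  obtain ⟨a, hax', hax, haa⟩ := exists_perp_aniso D h4 hd
  obtain ⟨b, hbx', hbx, hab, hbb, -⟩ := exists_frame D h4 hd hax' hax haa
  have hxa : rb D x a = 0 := (hs.symm _ _).trans hax
  have hx'a : rb D x' a = 0 := (hs.symm _ _).trans hax'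
  -- the conjugate centre
  obtain ⟨h, hh, hhx⟩ := exists_two_refl D hHM hX haa (M := M)
  have hU'' : em' F₀ P x' + (-μ₀) • em' F₀ P x ∈ centres D.form M := by
    have e1 : rf D x (rf D a x) = -x := by
      rw [rf_fix D hxa, rf, mul_div_assoc, div_self hX, mul_one, two_smul]
      abel
    have e2 : rf D x (rf D a x') = x' := by rw [rf_fix D hx'a, rf_fix D hx'x]
    have := centres_conj D.form hM hh hC
    rwa [mulVec_add, mulVec_smul, hhx, hhx, e1, e2, em_neg, smul_neg, ← neg_smul] at this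
  -- the isotropic points of the plane
  have hline : ∀ μ : F, (rb D x' x' : F₀) + μ * σ μ * (rb D x x : F₀) = 0 →
      em' F₀ P x' + μ • em' F₀ P x ∈ centres D.form M := by
    intro μ hμ
    have h2F := D.two
    obtain ⟨A, hA⟩ : ∃ A, A = (1 + μ / μ₀) / 2 := ⟨_, rfl⟩
    rcases eq_or_ne A 0 with hA0 | hA0
    · rw [show μ = -μ₀ by rw [hA] at hA0; field_simp at hA0; linear_combination hA0]
      exact hU''
    · have hne : f (em' F₀ P x' + μ₀ • em' F₀ P x) (em' F₀ P x' + (-μ₀) • em' F₀ P x) ≠ 0 := by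
        intro h0
        rw [hform, map_neg] at h0
        exact hX' ((mul_eq_zero.1 (show (2 : F₀) * rb D x' x' = 0 from hcoe _ (by
          push_cast [show ((2 : F₀) : F) = 2 from rfl]
          linear_combination h0 + hN₀))).resolve_left h2)
      have hcomb : A • (em' F₀ P x' + μ₀ • em' F₀ P x + ((1 - A) / A) • (em' F₀ P x' + (-μ₀) • em' F₀ P x)) =
          em' F₀ P x' + μ • em' F₀ P x := by
        rw [smul_add, smul_smul, mul_div_cancel₀ _ hA0, hA]
        match_scalars <;> field_simp <;> ring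
      have hiso : f (em' F₀ P x' + μ₀ • em' F₀ P x + ((1 - A) / A) • (em' F₀ P x' + (-μ₀) • em' F₀ P x))
          (em' F₀ P x' + μ₀ • em' F₀ P x + ((1 - A) / A) • (em' F₀ P x' + (-μ₀) • em' F₀ P x)) = 0 := by
        have h0 : f (em' F₀ P x' + μ • em' F₀ P x) (em' F₀ P x' + μ • em' F₀ P x) = 0 := by rw [hform]; exact hμ
        rw [← hcomb, D.form.smul_left, herm_smul_right D.form, mul_eq_zero, mul_eq_zero] at h0
        exact (h0.resolve_left hA0).resolve_left (by simpa using hA0)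
      rw [← hcomb]
      exact centres_smul D.form (centres_line D.form hM hC hU'' hne hiso) A
  -- one of them with both coordinates nonzero
  obtain ⟨i₀, hi₀⟩ : ∃ i : F₀, (i : F) = (μ₀ + σ μ₀) / 2 := ⟨⟨_, re_mem D μ₀⟩, rfl⟩
  obtain ⟨j₀, hj₀⟩ : ∃ j : F₀, (j : F) = (μ₀ - σ μ₀) / (2 * θ) := ⟨⟨_, im_mem D μ₀⟩, rfl⟩
  have hμsplit : μ₀ = i₀ + θ * j₀ := by rw [hi₀, hj₀]; exact split_eq D μ₀
  have hN : rb D x' x' + (i₀ * i₀ - dl D * (j₀ * j₀)) * rb D x x = 0 := hcoe _ (by
    rw [hμsplit, map_add, map_mul, D.bar, sfix D, sfix D] at hN₀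
    push_cast [dl_coe]
    linear_combination hN₀)
  obtain ⟨i, j, hi, hj, hij⟩ : ∃ i j : F₀, i ≠ 0 ∧ j ≠ 0 ∧
      rb D x' x' + (i * i - dl D * (j * j)) * rb D x x = 0 := by
    by_cases hb : i₀ ≠ 0 ∧ j₀ ≠ 0
    · exact ⟨i₀, j₀, hb.1, hb.2, hN⟩
    obtain ⟨m, hm, hm1⟩ := exists_slope hq (A := (1 : F₀)) one_ne_zero (dl_ne_zero D)
    have hden : 1 - m * m * dl D ≠ 0 := fun h => dl_not_sq D (1 / m) (by field_simp; linear_combination -h)
    obtain ⟨c1, hc1⟩ : ∃ c, c = (1 + m * m * dl D) / (1 - m * m * dl D) := ⟨_, rfl⟩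
    obtain ⟨c2, hc2⟩ : ∃ c, c = 2 * m / (1 - m * m * dl D) := ⟨_, rfl⟩
    have hc10 : c1 ≠ 0 := hc1 ▸ div_ne_zero hm1 hden
    have hc20 : c2 ≠ 0 := hc2 ▸ div_ne_zero (mul_ne_zero h2 hm) hden
    have hnorm : c1 * c1 - dl D * (c2 * c2) = 1 := by
      rw [hc1, hc2, div_mul_div_comm, div_mul_div_comm, mul_div_assoc', ← sub_div,
        div_eq_one_iff_eq (mul_ne_zero hden hden)]
      ring
    have hnot : ¬(i₀ = 0 ∧ j₀ = 0) := fun h => hμ₀ (by rw [hμsplit, h.1, h.2]; push_cast; ring)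
    refine ⟨i₀ * c1 + dl D * j₀ * c2, i₀ * c2 + j₀ * c1, ?_, ?_, ?_⟩
    · rcases eq_or_ne i₀ 0 with h0 | h0
      · rw [h0, zero_mul, zero_add]
        exact mul_ne_zero (mul_ne_zero (dl_ne_zero D) fun h => hnot ⟨h0, h⟩) hc20
      · rw [show j₀ = 0 from by_contra fun h => hb ⟨h0, h⟩, mul_zero, zero_mul, add_zero]
        exact mul_ne_zero h0 hc10
    · rcases eq_or_ne i₀ 0 with h0 | h0
      · rw [h0, zero_mul, zero_add]
        exact mul_ne_zero (fun h => hnot ⟨h0, h⟩) hc10
      · rw [show j₀ = 0 from by_contra fun h => hb ⟨h0, h⟩, zero_mul, add_zero]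
        exact mul_ne_zero h0 hc20
    · linear_combination hN + (i₀ * i₀ - dl D * (j₀ * j₀)) * rb D x x * hnorm
  obtain ⟨μ, hμ⟩ : ∃ μ : F, μ = i + θ * j := ⟨_, rfl⟩
  have hσμ : σ μ = i - θ * j := by rw [hμ, map_add, map_mul, D.bar, sfix D, sfix D]; ring
  have hij' := congrArg Subtype.val hij
  push_cast [dl_coe] at hij'
  have hW1 := hline μ (by rw [hσμ, hμ]; linear_combination hij')
  have hW0 := hline (σ μ) (by rw [D.form.involutive, hσμ, hμ]; linear_combination hij')
  -- a second plane through `x`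
  obtain ⟨α, hα⟩ : ∃ α, α = -1 - 2 * i * i * rb D x x / rb D x' x' := ⟨_, rfl⟩
  have hαeq : (1 + α) * rb D x' x' = -(2 * i * i * rb D x x) := by rw [hα]; field_simp; ring
  have h1α : 1 - α ≠ 0 := by
    intro h
    have h3 : 2 * (dl D * (j * j)) * rb D x x = 0 := by linear_combination hαeq + rb D x' x' * h - 2 * hij
    exact mul_ne_zero (mul_ne_zero h2 (mul_ne_zero (dl_ne_zero D) (mul_ne_zero hj hj))) hX h3
  have h1α' : 1 + α ≠ 0 := fun h => by
    rw [h, zero_mul, eq_comm, neg_eq_zero] at hαeq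
    exact mul_ne_zero (mul_ne_zero (mul_ne_zero h2 hi) hi) hX hαeq
  have htgt : (1 - α * α) * rb D x' x' ≠ 0 := by
    rw [show 1 - α * α = (1 - α) * (1 + α) by ring]
    exact mul_ne_zero (mul_ne_zero h1α h1α') hX'
  haveI : Fintype F₀ := Fintype.ofFinite _
  obtain ⟨k, l, hkl⟩ := CfsgLib.Classical.exists_binary_one (F := F₀) h2 (div_ne_zero haa htgt) (div_ne_zero hbb htgt)
  have hkl' : k * k * rb D a a + l * l * rb D b b = (1 - α * α) * rb D x' x' := by
    rw [div_mul_eq_mul_div, div_mul_eq_mul_div, ← add_div, div_eq_one_iff_eq htgt] at hkl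
    linear_combination hkl
  obtain ⟨x'', hx''⟩ : ∃ x'', x'' = α • x' + (k • a + l • b) := ⟨_, rfl⟩
  have hx'b : rb D x' b = 0 := (hs.symm _ _).trans hbx'
  have hxb : rb D x b = 0 := (hs.symm _ _).trans hbx
  have hba : rb D b a = 0 := (hs.symm _ _).trans hab
  have g1 : rb D x x'' = 0 := by
    simp only [hx'', hs.bilinear.add_right, hs.bilinear.smul_right, hxx', hxa, hxb]; ring
  have g2 : rb D x' x'' = α * rb D x' x' := by
    simp only [hx'', hs.bilinear.add_right, hs.bilinear.smul_right, hx'a, hx'b]; ring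
  have g3 : rb D x'' x'' = rb D x' x' := by
    simp only [hx'', hs.bilinear.add_right, hs.bilinear.smul_right, hs.bilinear.add_left, hs.bilinear.smul_left, hx'a,
      hx'b, hax', hbx', hab, hba]
    linear_combination hkl'
  have g4 : rb D x'' x = 0 := (hs.symm _ _).trans g1
  have g5 : rb D x'' x' = α * rb D x' x' := by rw [hs.symm, g2]
  have hdd : rb D (x' - x'') (x' - x'') = 2 * (1 - α) * rb D x' x' := by
    rw [Orth.sym_sub_left hs, Orth.sym_sub_right hs, Orth.sym_sub_right hs, g2, g3, g5]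
    ring
  have hdd0 : rb D (x' - x'') (x' - x'') ≠ 0 := hdd ▸ mul_ne_zero (mul_ne_zero h2 h1α) hX'
  obtain ⟨h', hh', hh'x⟩ := exists_two_refl D hHM hdd0 haa (M := M)
  have e1 : rf D (x' - x'') (rf D a x) = x := by
    rw [rf_fix D hxa, rf_fix D]
    rw [Orth.sym_sub_right hs, hxx', g1, sub_zero]
  have e2 : rf D (x' - x'') (rf D a x') = x'' := by
    rw [rf_fix D hx'a, rf, hdd, Orth.sym_sub_right hs, g2,
      show 2 * (rb D x' x' - α * rb D x' x') / (2 * (1 - α) * rb D x' x') = 1 by field_simp, one_smul, sub_sub_cancel]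
  have hW2 := centres_conj D.form hM hh' hW0
  rw [mulVec_add, mulVec_smul, hh'x, hh'x, e1, e2] at hW2
  -- their join is rational
  obtain ⟨z, hz⟩ : ∃ z, z = (2 * i) • x + x' + x'' := ⟨_, rfl⟩
  have hzz : rb D z z = 0 := by
    simp only [hz, hs.bilinear.add_right, hs.bilinear.smul_right, hs.bilinear.add_left, hs.bilinear.smul_left, hxx',
      hx'x, g1, g2, g3, g4, g5]
    linear_combination 2 * hαeq
  have hz0 : z ≠ 0 := fun h => by
    have h1 : rb D z x = 0 := by rw [h, Orth.sym_zero_left hs]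
    simp only [hz, hs.bilinear.add_left, hs.bilinear.smul_left, hx'x, g4, add_zero] at h1
    exact mul_ne_zero (mul_ne_zero h2 hi) hX h1
  have hsum : em' F₀ P x' + μ • em' F₀ P x + (1 : F) • (em' F₀ P x'' + σ μ • em' F₀ P x) = em' F₀ P z := by
    rw [hz, em_add, em_add, em_smul, hσμ, hμ, one_smul]
    push_cast [show ((2 : F₀) : F) = 2 from rfl]
    module
  have hab' : f (em' F₀ P x' + μ • em' F₀ P x) (em' F₀ P x'' + σ μ • em' F₀ P x) ≠ 0 := by
    intro h0
    rw [D.form.add_left, herm_add_right D.form, herm_add_right D.form, D.form.smul_left, D.form.smul_left,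
      herm_smul_right D.form, herm_smul_right D.form, D.form.involutive, f1, f4, ← rb_coe D, ← rb_coe D, g1, g2,
      hμ] at h0
    obtain ⟨-, e⟩ := coe_split_unique D (x := α * rb D x' x' + (i * i + dl D * (j * j)) * rb D x x)
      (y := 2 * i * j * rb D x x) (x' := 0) (y' := 0)
      (by push_cast [dl_coe, show ((2 : F₀) : F) = 2 from rfl] at h0 ⊢; linear_combination h0)
    exact mul_ne_zero (mul_ne_zero (mul_ne_zero h2 hi) hj) hX e
  have hC' := centres_line D.form hM hW1 hW2 hab' (r := 1) (by rw [hsum, ← rb_coe D, hzz]; rfl)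
  rw [hsum] at hC'
  exact ⟨z, hz0, hzz, hC'⟩

/-- any centre gives a rational one -/
theorem exists_rational_centre {v₀ : ι → F} (hv₀ : v₀ ∈ centres D.form M) (hv₀0 : v₀ ≠ 0) :
    ∃ u, u ≠ 0 ∧ rb D u u = 0 ∧ em' F₀ P u ∈ centres D.form M := by
  have hs := rb_symmetric D
  have h2 := two' D
  obtain ⟨p, hp⟩ : ∃ p, p = rp D v₀ := ⟨_, rfl⟩
  obtain ⟨r, hr⟩ : ∃ r, r = ip D v₀ := ⟨_, rfl⟩
  have hvd : v₀ = em' F₀ P p + θ • em' F₀ P r := by rw [hp, hr]; exact decomp D v₀
  by_cases hind : ∀ c d : F₀, c • p + d • r = 0 → c = 0 ∧ d = 0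
  swap
  · obtain ⟨k, w, hkw⟩ := line_of_dep D hind
    rw [← hvd] at hkw
    have hk0 : k ≠ 0 := fun h => hv₀0 (by rw [hkw, h, zero_smul])
    have hw : em' F₀ P w ∈ centres D.form M := by
      have h := centres_smul D.form hv₀ k⁻¹
      rwa [hkw, inv_smul_smul₀ hk0] at h
    exact ⟨w, fun h => hv₀0 (by rw [hkw, h, em_zero, smul_zero]), (rb_isotropic D w).1 hw.1, hw⟩
  have hpp : rb D p p = dl D * rb D r r := f_iso_parts D (hvd ▸ hv₀.1)
  by_cases hsing : rb D r r = 0 ∧ rb D p r = 0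
  · have hr0 : r ≠ 0 := fun h => one_ne_zero (hind 0 1 (by rw [h, zero_smul, smul_zero, add_zero])).2
    refine ⟨r, hr0, hsing.1, spread D hM hHM hv₀ hvd hsing.1 ((hs.symm _ _).trans hsing.2) hsing.1 fun h => ?_⟩
    obtain ⟨c, hc⟩ := Submodule.mem_span_singleton.1 h.1
    exact one_ne_zero (hind 1 (-c) (by rw [← hc, one_smul, neg_smul, add_neg_cancel])).1
  have hd := disc_of D hpp hsing
  rcases eq_or_ne (rb D r r) 0 with hrr | hrr
  · have hpr : rb D p r ≠ 0 := fun h => hsing ⟨hrr, h⟩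
    rw [hrr, mul_zero] at hpp
    have hrp : rb D r p = rb D p r := hs.symm _ _
    have hθ1 : (1 : F) - θ ≠ 0 := fun h => dl_not_sq D 1 (Subtype.ext (by
      push_cast [dl_coe]; linear_combination -(1 + θ) * h))
    have h2F := D.two
    refine centre_of_plane D hM hHM h4 hq (x := p + r) (x' := p - r) ?_ ?_ ?_ (μ₀ := (1 + θ) / (1 - θ)) ?_
    · simp only [hs.bilinear.add_left, Orth.sym_sub_right hs, hpp, hrr, hrp]; ring
    · simp only [hs.bilinear.add_left, hs.bilinear.add_right, hpp, hrr, hrp, zero_add, add_zero]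
      exact fun h => hpr ((mul_eq_zero.1 (show (2 : F₀) * rb D p r = 0 by linear_combination h)).resolve_left h2)
    · simp only [Orth.sym_sub_left hs, Orth.sym_sub_right hs, hpp, hrr, hrp, zero_sub, sub_zero]
      exact fun h => hpr ((mul_eq_zero.1 (show (2 : F₀) * rb D p r = 0 by linear_combination -h)).resolve_left h2)
    · have h := centres_smul D.form hv₀ (2 / (1 - θ))
      convert h using 1
      rw [hvd, em_add, em_sub]
      match_scalars <;> field_simp <;> ring
  · obtain ⟨k, hk⟩ : ∃ k, k = rb D p r / rb D r r := ⟨_, rfl⟩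
    have hkr : k * rb D r r = rb D p r := hk ▸ div_mul_cancel₀ _ hrr
    refine centre_of_plane D hM hHM h4 hq (x := r) (x' := p - k • r) ?_ hrr ?_ (μ₀ := (k : F) + θ) ?_
    · rw [Orth.sym_sub_right hs, hs.bilinear.smul_right, hkr, hs.symm r p, sub_self]
    · intro h
      simp only [Orth.sym_sub_left hs, Orth.sym_sub_right hs, hs.bilinear.smul_left, hs.bilinear.smul_right,
        hs.symm r p, hkr] at h
      exact hd (by linear_combination rb D r r * h + rb D p r * hkr)
    · convert hv₀ using 1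
      rw [hvd, em_sub, em_smul]
      module

/-- a nonzero centre gives every isotropic vector -/
theorem all_centres_four {v₀ : ι → F} (hv₀ : v₀ ∈ centres D.form M) (hv₀0 : v₀ ≠ 0) {v : ι → F} (hvv : f v v = 0) :
    v ∈ centres D.form M := by
  have hs := rb_symmetric D
  have h2 := two' D
  obtain ⟨u₁, hu₁0, hu₁, hu₁C⟩ := exists_rational_centre D hM hHM h4 hq hv₀ hv₀0
  have step : ∀ {a b : ι → F₀}, em' F₀ P a ∈ centres D.form M → rb D a a = 0 → rb D b b = 0 → rb D a b ≠ 0 →
      em' F₀ P b ∈ centres D.form M := by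
    intro a b ha haa hbb hab
    have hd : rb D a a * rb D b b - rb D a b * rb D a b ≠ 0 := by
      rw [haa, zero_mul, zero_sub, neg_ne_zero]; exact mul_ne_zero hab hab
    obtain ⟨e, hea, heb, hee⟩ := exists_perp_aniso D h4 hd
    have hdd : rb D (a - b) (a - b) = -(2 * rb D a b) := by
      simp only [Orth.sym_sub_left hs, Orth.sym_sub_right hs, haa, hbb, hs.symm b a]
      ring
    obtain ⟨h, hh, hhx⟩ := exists_two_refl D hHM (d1 := a - b) (d2 := e) (M := M)
      (by rw [hdd]; exact neg_ne_zero.2 (mul_ne_zero h2 hab)) hee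
    have e1 : rf D (a - b) (rf D e a) = b := by
      rw [rf_fix D ((hs.symm _ _).trans hea), rf, hdd, Orth.sym_sub_right hs, haa,
        show 2 * (0 - rb D a b) / (-(2 * rb D a b)) = 1 by field_simp; ring, one_smul, sub_sub_cancel]
    have := centres_conj D.form hM hh ha
    rwa [hhx, e1] at this
  obtain ⟨v₁, hv₁, huv₁⟩ := exists_sing_partner D hu₁0 hu₁
  have hvu₁ : rb D v₁ u₁ = 1 := (hs.symm _ _).trans huv₁
  have hratC : ∀ u, rb D u u = 0 → em' F₀ P u ∈ centres D.form M := by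
    intro u hu
    rcases eq_or_ne u 0 with rfl | hu0
    · rw [em_zero]; exact centres_zero D.form M
    by_cases h1 : rb D u₁ u = 0
    swap
    · exact step hu₁C hu₁ hu h1
    have hv₁C := step hu₁C hu₁ hv₁ (by rw [huv₁]; exact one_ne_zero)
    by_cases h3 : rb D v₁ u = 0
    swap
    · exact step hv₁C hv₁ hu h3
    obtain ⟨v₂, -, huv₂⟩ := exists_sing_partner D hu0 hu
    obtain ⟨v', hv'⟩ : ∃ v', v' = v₂ - rb D v₂ v₁ • u₁ - rb D v₂ u₁ • v₁ := ⟨_, rfl⟩
    have huu₁ : rb D u u₁ = 0 := (hs.symm _ _).trans h1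
    have huv₁' : rb D u v₁ = 0 := (hs.symm _ _).trans h3
    have k1 : rb D u v' = 1 := by
      simp only [hv', Orth.sym_sub_right hs, hs.bilinear.smul_right, huu₁, huv₁', huv₂]; ring
    have k2 : rb D v' u₁ = 0 := by
      simp only [hv', Orth.sym_sub_left hs, hs.bilinear.smul_left, hu₁, hvu₁]; ring
    have k3 : rb D v' v₁ = 0 := by
      simp only [hv', Orth.sym_sub_left hs, hs.bilinear.smul_left, hv₁, huv₁]; ring
    obtain ⟨w, hw⟩ : ∃ w, w = v₁ + (v' - (rb D v' v' / 2) • u) := ⟨_, rfl⟩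
    have hww : rb D w w = 0 := by
      simp only [hw, hs.bilinear.add_left, hs.bilinear.add_right, Orth.sym_sub_left hs, Orth.sym_sub_right hs,
        hs.bilinear.smul_left, hs.bilinear.smul_right, hv₁, hu, h3, huv₁', k1, k3, hs.symm v₁ v', hs.symm v' u]
      field_simp
      ring
    have hu₁w : rb D u₁ w = 1 := by
      simp only [hw, hs.bilinear.add_right, Orth.sym_sub_right hs, hs.bilinear.smul_right, huv₁, h1, hs.symm u₁ v', k2]
      ring
    have hwu : rb D w u = 1 := by
      simp only [hw, hs.bilinear.add_left, Orth.sym_sub_left hs, hs.bilinear.smul_left, h3, hu, hs.symm v' u, k1]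
      ring
    exact step (step hu₁C hu₁ hww (by rw [hu₁w]; exact one_ne_zero)) hww hu (by rw [hwu]; exact one_ne_zero)
  -- sums with orthogonal singular parts
  have hiso : ∀ {p r : ι → F₀}, rb D p p = 0 → rb D r r = 0 →
      f (em' F₀ P p + θ • em' F₀ P r) (em' F₀ P p + θ • em' F₀ P r) = 0 := fun {p r} hp hr => by
    rw [f_mixed D, hp, hr, hs.symm r p]
    push_cast
    ring
  have hsing : ∀ {p r : ι → F₀}, rb D p p = 0 → rb D r r = 0 →
      em' F₀ P p + θ • em' F₀ P r ∈ centres D.form M := by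
    intro p r hp hr
    have hyp : ∀ {p r : ι → F₀}, rb D p p = 0 → rb D r r = 0 → rb D p r ≠ 0 →
        em' F₀ P p + θ • em' F₀ P r ∈ centres D.form M := fun {p r} hp hr hpr =>
      centres_line D.form hM (hratC p hp) (hratC r hr)
        (fun h => hpr (Subtype.ext (by rw [rb_coe, h]; rfl))) (hiso hp hr)
    by_cases hpr : rb D p r = 0
    swap
    · exact hyp hp hr hpr
    by_cases hdep : r ∈ Submodule.span F₀ ({p} : Set (ι → F₀))
    · obtain ⟨c, rfl⟩ := Submodule.mem_span_singleton.1 hdep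
      rw [show em' F₀ P p + θ • em' F₀ P (c • p) = (1 + θ * c) • em' F₀ P p by
        rw [em_smul, smul_smul, add_smul, one_smul]]
      exact centres_smul D.form (hratC p hp) _
    obtain ⟨y, hy1, hy2⟩ := Orth.exists_pairing hs hdep
    obtain ⟨x, hx⟩ : ∃ x, x = y - (rb D y y / 2) • r := ⟨_, rfl⟩
    have hyp' : rb D p y = 0 := hy2 p (Submodule.mem_span_singleton_self p)
    have hxx : rb D x x = 0 := by
      simp only [hx, Orth.sym_sub_left hs, Orth.sym_sub_right hs, hs.bilinear.smul_left, hs.bilinear.smul_right, hr,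
        hs.symm y r, hy1]
      field_simp
      ring
    have hxp : rb D x p = 0 := by
      simp only [hx, Orth.sym_sub_left hs, hs.bilinear.smul_left, hs.symm y p, hyp', hs.symm r p, hpr]; ring
    have hxr : rb D x r ≠ 0 := by
      simp only [hx, Orth.sym_sub_left hs, hs.bilinear.smul_left, hs.symm y r, hy1, hr, mul_zero, sub_zero]
      exact one_ne_zero
    have hp' : rb D (p - x) (p - x) = 0 := by
      rw [Orth.sym_sub_left hs, Orth.sym_sub_right hs, Orth.sym_sub_right hs, hp, hxx, hs.symm p x, hxp]; ring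
    have hp'r : rb D (p - x) r ≠ 0 := by rw [Orth.sym_sub_left hs, hpr, zero_sub, neg_ne_zero]; exact hxr
    have e0 : em' F₀ P (p - x) + θ • em' F₀ P r + (1 : F) • em' F₀ P x = em' F₀ P p + θ • em' F₀ P r := by
      rw [em_sub, one_smul]; abel
    have hl := centres_line D.form hM (hyp hp' hr hp'r) (hratC x hxx) (r := 1) ?_ (by rw [e0]; exact hiso hp hr)
    · rwa [e0] at hl
    · intro h
      have e := f_mixed D (p - x) r x 0
      rw [em_zero, smul_zero, add_zero, h, Orth.sym_zero_right hs, Orth.sym_zero_right hs] at e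
      obtain ⟨-, e2⟩ := coe_split_unique D (x := rb D (p - x) x) (y := rb D r x) (x' := 0) (y' := 0)
        (by push_cast at e ⊢; linear_combination -e)
      exact hxr ((hs.symm _ _).trans e2)
  -- the general vector
  obtain ⟨p, hp⟩ : ∃ p, p = rp D v := ⟨_, rfl⟩
  obtain ⟨r, hr⟩ : ∃ r, r = ip D v := ⟨_, rfl⟩
  have hvd : v = em' F₀ P p + θ • em' F₀ P r := by rw [hp, hr]; exact decomp D v
  have hq' : rb D p p = dl D * rb D r r := f_iso_parts D (hvd ▸ hvv)
  rw [hvd]
  by_cases hrr : rb D r r = 0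
  · exact hsing (by rw [hq', hrr, mul_zero]) hrr
  have hpp : rb D p p ≠ 0 := by rw [hq']; exact mul_ne_zero (dl_ne_zero D) hrr
  have hone : ∀ t : ι → F₀, t ≠ 0 → ∃ a, rb D a a = 0 ∧ rb D t a ≠ 0 := by
    intro t ht
    by_cases h1 : rb D t u₁ = 0
    swap
    · exact ⟨u₁, hu₁, h1⟩
    by_cases h3 : rb D t v₁ = 0
    swap
    · exact ⟨v₁, hv₁, h3⟩
    obtain ⟨z, hz⟩ := (hs.nondegenerate t ht).2
    obtain ⟨z', hz'⟩ : ∃ z', z' = z - rb D z v₁ • u₁ - rb D z u₁ • v₁ := ⟨_, rfl⟩
    have k2 : rb D z' u₁ = 0 := by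
      simp only [hz', Orth.sym_sub_left hs, hs.bilinear.smul_left, hu₁, hvu₁]; ring
    have k3 : rb D z' v₁ = 0 := by
      simp only [hz', Orth.sym_sub_left hs, hs.bilinear.smul_left, hv₁, huv₁]; ring
    have k1 : rb D t z' = rb D t z := by
      simp only [hz', Orth.sym_sub_right hs, hs.bilinear.smul_right, h1, h3]; ring
    refine ⟨u₁ + z' - (rb D z' z' / 2) • v₁, ?_, ?_⟩
    · simp only [Orth.sym_sub_left hs, Orth.sym_sub_right hs, hs.bilinear.add_left, hs.bilinear.add_right,
        hs.bilinear.smul_left, hs.bilinear.smul_right, hu₁, hv₁, huv₁, hvu₁, k2, k3, hs.symm u₁ z', hs.symm v₁ z']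
      field_simp
      ring
    · simp only [Orth.sym_sub_right hs, hs.bilinear.add_right, hs.bilinear.smul_right, h1, h3, k1, zero_add, mul_zero,
        sub_zero]
      exact hz
  obtain ⟨x, hxx, hpx, hrx⟩ : ∃ x, rb D x x = 0 ∧ rb D p x ≠ 0 ∧ rb D r x ≠ 0 := by
    obtain ⟨a, haa, hpa⟩ := hone p fun h => hpp (by rw [h, Orth.sym_zero_left hs])
    obtain ⟨b, hbb, hrb⟩ := hone r fun h => hrr (by rw [h, Orth.sym_zero_left hs])
    by_cases hra : rb D r a = 0
    swap
    · exact ⟨a, haa, hpa, hra⟩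
    by_cases hpb : rb D p b = 0
    swap
    · exact ⟨b, hbb, hpb, hrb⟩
    by_cases hab : rb D a b = 0
    · refine ⟨a + b, ?_, by rwa [hs.bilinear.add_right, hpb, add_zero],
        by rwa [hs.bilinear.add_right, hra, zero_add]⟩
      rw [hs.bilinear.add_left, hs.bilinear.add_right, hs.bilinear.add_right, haa, hbb, hs.symm b a, hab]
      ring
    have hd : rb D a a * rb D b b - rb D a b * rb D a b ≠ 0 := by
      rw [haa, zero_mul, zero_sub, neg_ne_zero]; exact mul_ne_zero hab hab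
    obtain ⟨z, hza, hzb, hzz⟩ := exists_perp_aniso D h4 hd
    obtain ⟨l, hl0, hl1, hl2⟩ := exists_avoid3 hq 0 (-(rb D p a / rb D p z))
      (2 * rb D a b * rb D r z / (rb D z z * rb D r b))
    refine ⟨a + (-(l * l * rb D z z) / (2 * rb D a b)) • b + l • z, ?_, ?_, ?_⟩
    · simp only [hs.bilinear.add_left, hs.bilinear.add_right, hs.bilinear.smul_left, hs.bilinear.smul_right, haa, hbb,
        hza, hzb, hs.symm b a, hs.symm a z, hs.symm b z]
      field_simp
      ring
    · intro h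
      simp only [hs.bilinear.add_right, hs.bilinear.smul_right, hpb, mul_zero, add_zero] at h
      have hpz : rb D p z ≠ 0 := fun h0 => hpa (by rwa [h0, mul_zero, add_zero] at h)
      exact hl1 (by field_simp; linear_combination h)
    · intro h
      simp only [hs.bilinear.add_right, hs.bilinear.smul_right, hra, zero_add] at h
      field_simp at h
      refine hl2 ?_
      rw [eq_div_iff (mul_ne_zero hzz hrb)]
      refine mul_left_cancel₀ hl0 ?_
      first | linear_combination h | linear_combination -h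
  obtain ⟨t1, ht1⟩ : ∃ t, t = dl D * rb D r r / (2 * rb D p x) := ⟨_, rfl⟩
  obtain ⟨t2, ht2⟩ : ∃ t, t = rb D r r / (2 * rb D r x) := ⟨_, rfl⟩
  have hp' : rb D (p - t1 • x) (p - t1 • x) = 0 := by
    rw [Orth.sym_sub_left hs, Orth.sym_sub_right hs, Orth.sym_sub_right hs, hs.bilinear.smul_right,
      hs.bilinear.smul_left, hs.bilinear.smul_left, hs.bilinear.smul_right, hxx, hq', hs.symm x p, ht1]
    field_simp
    ring
  have hr' : rb D (r - t2 • x) (r - t2 • x) = 0 := by
    rw [Orth.sym_sub_left hs, Orth.sym_sub_right hs, Orth.sym_sub_right hs, hs.bilinear.smul_right,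
      hs.bilinear.smul_left, hs.bilinear.smul_left, hs.bilinear.smul_right, hxx, hs.symm x r, ht2]
    field_simp
    ring
  have e : em' F₀ P (p - t1 • x) + θ • em' F₀ P (r - t2 • x) + ((t1 : F) + θ * t2) • em' F₀ P x =
      em' F₀ P p + θ • em' F₀ P r := by
    rw [em_sub, em_sub, em_smul, em_smul]
    module
  have hl := centres_line D.form hM (hsing hp' hr') (hratC x hxx) (r := (t1 : F) + θ * t2) ?_ ?_
  · rwa [e] at hl
  · intro h
    have e' := f_mixed D (p - t1 • x) (r - t2 • x) x 0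
    rw [em_zero, smul_zero, add_zero, h, Orth.sym_zero_right hs, Orth.sym_zero_right hs, Orth.sym_sub_left hs,
      Orth.sym_sub_left hs, hs.bilinear.smul_left, hs.bilinear.smul_left, hxx] at e'
    obtain ⟨e1, -⟩ := coe_split_unique D (x := rb D p x) (y := rb D r x) (x' := 0) (y' := 0)
      (by push_cast at e' ⊢; linear_combination -e')
    exact hpx e1
  · rw [e, ← hvd]; exact hvv

omit hM hHM

/-- orthogonal subfield subgroups are maximal in four dimensional special unitary groups -/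
theorem orth_subfield_maximal_four :
    IsMaximalIn (isoU f ⊓ specialLinear ι F) (subfieldSubgroup F₀ P ⊓ (isoU f ⊓ specialLinear ι F)) := by
  classical
  refine isMaximalIn_of_centres D.form (by omega) (not_le_subfield D) fun M hHM hM hnot u hu => ?_
  obtain ⟨g, hg, hgn⟩ := SetLike.not_le_iff_exists.1 hnot
  have hMI : M ≤ isoU f := hM.trans inf_le_left
  obtain ⟨v₀, hv₀, hv₀0⟩ : ∃ v, v ∈ centres D.form M ∧ v ≠ 0 := by
    by_contra h
    push Not at h
    exact hgn (rational_of_four D hMI (hM.trans inf_le_right) hHM h h4 hq hg)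
  exact all_centres_four D hMI hHM h4 hq hv₀ hv₀0 hu

end CfsgLib.Perm.Trans.Unit.ORat
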