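import Cfsg.Agent.Lib.Perm.Trans.UnitPair
import Cfsg.Agent.Lib.Perm.Trans.UnitDecomp.Arith

/-!
# Stabilisers of pairs of totally singular planes are maximal in unitary groups of degree four

A cross line is spanned by orthogonal vectors of the two planes. If an element maps a cross line to a line missing
both planes, sums of conjugated shears at that line contain a transvection, which leads to a centre in one of the
planes. An element permuting the cross lines keeps or exchanges the planes.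
-/

set_option autoImplicit false
set_option linter.all false

namespace CfsgLib.Perm.Trans.Unit

open scoped Matrix
open Matrix Cfsg.Geo CfsgLib.Perm.Asch CfsgLib.Perm.Trans

variable {ι : Type} [Fintype ι] [DecidableEq ι] {F : Type*} [Field F] [Fintype F]
variable {σ : F ≃+* F} {f : (ι → F) → (ι → F) → F}

/-- `M` contains the element of the axis `⟨u, v⟩` with the skew hermitian entries `A`, `C`, `B` -/
def QIn (σ : F ≃+* F) (f : (ι → F) → (ι → F) → F) (M : Subgroup (GL ι F)) (u v : ι → F) (A C B : F) : Prop :=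
  ∃ g ∈ M, ∀ z, (g : Matrix ι ι F) *ᵥ z =
    z + (A * f z u + C * f z v) • u + (B * f z v - σ C * f z u) • v

/-- every pair of orthogonal vectors from the two subspaces is moved to a line through such a pair -/
def Cross (f : (ι → F) → (ι → F) → F) (X Y : Submodule F (ι → F)) (g : GL ι F) : Prop :=
  ∀ x ∈ X, x ≠ 0 → ∀ y ∈ Y, y ≠ 0 → f x y = 0 → ∃ a ∈ X, a ≠ 0 ∧ ∃ b ∈ Y, b ≠ 0 ∧ f a b = 0 ∧
    (g : Matrix ι ι F) *ᵥ x ∈ Submodule.span F ({a, b} : Set (ι → F)) ∧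
    (g : Matrix ι ι F) *ᵥ y ∈ Submodule.span F ({a, b} : Set (ι → F))

variable {M : Subgroup (GL ι F)} {u v : ι → F} {A C B A' C' B' : F} {X Y : Submodule F (ι → F)}

theorem SingPair.split_unique (P : SingPair f X Y) {a a' b b' : ι → F} (ha : a ∈ X) (ha' : a' ∈ X) (hb : b ∈ Y)
    (hb' : b' ∈ Y) (h : a + b = a' + b') : a = a' ∧ b = b' := by
  have h1 : a - a' = b' - b := by
    rw [sub_eq_sub_iff_add_eq_add, h, add_comm]
  have h0 := P.eq_zero (X.sub_mem ha ha') (h1 ▸ Y.sub_mem hb' hb)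
  rw [h0, eq_comm, sub_eq_zero] at h1
  exact ⟨sub_eq_zero.1 h0, h1.symm⟩

variable (hf : IsUnitaryForm σ f)
include hf

theorem QIn.add (huu : f u u = 0) (hvv : f v v = 0) (huv : f u v = 0) (h : QIn σ f M u v A C B)
    (h' : QIn σ f M u v A' C' B') : QIn σ f M u v (A + A') (C + C') (B + B') := by
  obtain ⟨g, hg, hgz⟩ := h
  obtain ⟨g', hg', hgz'⟩ := h'
  refine ⟨g * g', M.mul_mem hg hg', fun z => ?_⟩
  rw [gl_mul_mulVec, hgz, hgz']
  simp only [hf.add_left, hf.smul_left, huu, hvv, huv, herm_swap_zero hf huv, mul_zero, add_zero, map_add]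
  module

theorem QIn.neg (huu : f u u = 0) (hvv : f v v = 0) (huv : f u v = 0) (h : QIn σ f M u v A C B) :
    QIn σ f M u v (-A) (-C) (-B) := by
  obtain ⟨g, hg, hgz⟩ := h
  refine ⟨g⁻¹, M.inv_mem hg, fun z => ?_⟩
  have h1 : (g : Matrix ι ι F) *ᵥ (z + (-A * f z u + -C * f z v) • u + (-B * f z v - σ (-C) * f z u) • v) = z := by
    rw [hgz]
    simp only [hf.add_left, hf.smul_left, huu, hvv, huv, herm_swap_zero hf huv, mul_zero, add_zero, map_neg]
    module
  conv_lhs => rw [← h1, gl_inv_mulVec]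

theorem QIn.conj (hM : M ≤ isoU f) (h : QIn σ f M u v A C B) {k : GL ι F} (hk : k ∈ M) :
    QIn σ f M ((k : Matrix ι ι F) *ᵥ u) ((k : Matrix ι ι F) *ᵥ v) A C B := by
  obtain ⟨g, hg, hgz⟩ := h
  refine ⟨k * g * k⁻¹, M.mul_mem (M.mul_mem hk hg) (M.inv_mem hk), fun z => ?_⟩
  have key : ∀ c, f z ((k : Matrix ι ι F) *ᵥ c) = f (((k⁻¹ : GL ι F) : Matrix ι ι F) *ᵥ z) c := fun c => by
    conv_lhs => rw [← gl_mulVec_inv k z]
    rw [mem_isoU.1 (hM hk)]
  rw [gl_mul_mulVec, gl_mul_mulVec, hgz, mulVec_add, mulVec_add, mulVec_smul, mulVec_smul, gl_mulVec_inv, key, key]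

theorem QIn.smul_left (s : F) (h : QIn σ f M (s • u) v A C B) : QIn σ f M u v (s * σ s * A) (s * C) B := by
  obtain ⟨g, hg, hgz⟩ := h
  refine ⟨g, hg, fun z => ?_⟩
  rw [hgz, herm_smul_right hf, map_mul]
  module

theorem qIn_of_shear {t : F} (h : ShearIn f M (t • u) v) : QIn σ f M u v 0 t 0 := by
  obtain ⟨g, hg, hgz⟩ := h
  refine ⟨g, hg, fun z => ?_⟩
  rw [hgz, herm_smul_right hf]
  module

theorem qIn_of_centre {P Q : F} (h : P • u + Q • v ∈ centres hf M) {l : F} (hl : σ l = -l) :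
    QIn σ f M u v (l * (P * σ P)) (l * (P * σ Q)) (l * (Q * σ Q)) := by
  obtain ⟨h0, hmem⟩ := h.2 l hl
  refine ⟨_, hmem, fun z => ?_⟩
  rw [tv_mulVec, smul_dotProduct, hv_dot, herm_add_right hf, herm_smul_right hf, herm_smul_right hf, smul_eq_mul,
    map_mul, map_mul, hf.involutive, hl]
  module

theorem centre_of_qIn (huu : f u u = 0) (hvv : f v v = 0) (huv : f u v = 0) {P Q : F}
    (h : ∀ l : F, σ l = -l → QIn σ f M u v (l * (P * σ P)) (l * (P * σ Q)) (l * (Q * σ Q))) :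
    P • u + Q • v ∈ centres hf M := by
  have hpp : f (P • u + Q • v) (P • u + Q • v) = 0 := by
    simp only [hf.add_left, hf.smul_left, herm_add_right hf, herm_smul_right hf, huu, hvv, huv,
      herm_swap_zero hf huv, mul_zero, add_zero]
  refine ⟨hpp, fun l hl => ⟨utv_orth hf hpp l, ?_⟩⟩
  obtain ⟨g, hg, hgz⟩ := h l hl
  rwa [show tv (P • u + Q • v) (l • hv hf (P • u + Q • v)) (utv_orth hf hpp l) = g from gl_ext_vec fun z => by
    rw [tv_mulVec, hgz, smul_dotProduct, hv_dot, herm_add_right hf, herm_smul_right hf, herm_smul_right hf,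
      smul_eq_mul, map_mul, map_mul, hf.involutive, hl]
    module]

/-- two families of shears at one singular line give a transvection -/
theorem centre_of_shears (huu : f u u = 0) (hvv : f v v = 0) (huv : f u v = 0)
    (hc : ∀ c : F, ShearIn f M (c • u) v) {α β γ ε : F}
    (hk : ∀ t : F, ShearIn f M (t • (α • u + β • v)) (γ • u + ε • v)) (hne : α * γ ≠ 0) :
    ∃ Q : F, (1 : F) • u + Q • v ∈ centres hf M := by
  obtain ⟨hα, hγ⟩ := mul_ne_zero_iff.1 hne
  obtain ⟨θ, hθ⟩ := exists_not_fixed hf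
  have hσγ : σ γ ≠ 0 := by simpa using hγ
  have hσα : σ α ≠ 0 := by simpa using hα
  obtain ⟨t₀, ht₀⟩ : ∃ t₀, t₀ = θ / (σ γ * α) := ⟨_, rfl⟩
  have hform : ∀ t, QIn σ f M u v (t * σ γ * α - σ t * σ α * γ) (t * σ ε * α - σ t * σ β * γ)
      (t * σ ε * β - σ t * σ β * ε) := fun t => by
    obtain ⟨g, hg, hgz⟩ := hk t
    refine ⟨g, hg, fun z => ?_⟩
    rw [hgz]
    simp only [herm_smul_right hf, herm_add_right hf, map_sub, map_mul, hf.involutive]
    module
  obtain ⟨A₀, hA₀⟩ : ∃ A₀, A₀ = t₀ * σ γ * α - σ t₀ * σ α * γ := ⟨_, rfl⟩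
  obtain ⟨C₀, hC₀⟩ : ∃ C₀, C₀ = t₀ * σ ε * α - σ t₀ * σ β * γ := ⟨_, rfl⟩
  obtain ⟨B₀, hB₀⟩ : ∃ B₀, B₀ = t₀ * σ ε * β - σ t₀ * σ β * ε := ⟨_, rfl⟩
  have hA₀' : A₀ = θ - σ θ := by
    rw [hA₀, ht₀, map_div₀, map_mul, hf.involutive]
    field_simp
  have hA0 : A₀ ≠ 0 := hA₀' ▸ sub_ne_zero.2 (Ne.symm hθ)
  have hAσ : σ A₀ = -A₀ := by rw [hA₀', map_sub, hf.involutive]; ring
  have hBσ : σ B₀ = -B₀ := by
    rw [hB₀, map_sub, map_mul, map_mul, map_mul, map_mul, hf.involutive, hf.involutive, hf.involutive]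
    ring
  obtain ⟨Q, hQ⟩ := exists_norm hf (d := B₀ / A₀) (by rw [map_div₀, hAσ, hBσ, neg_div_neg_eq])
  refine ⟨Q, centre_of_qIn hf huu hvv huv fun l hl => ?_⟩
  obtain ⟨r, hr⟩ : ∃ r, r = l / A₀ := ⟨_, rfl⟩
  have hσr : σ r = r := by rw [hr, map_div₀, hl, hAσ, neg_div_neg_eq]
  have h1 := QIn.add hf huu hvv huv (hform (r * t₀)) (qIn_of_shear hf (hc (l * σ Q - r * C₀)))
  have e1 : r * t₀ * σ γ * α - σ (r * t₀) * σ α * γ + 0 = l * (1 * σ (1 : F)) := by
    rw [map_mul, hσr, map_one, mul_one, mul_one, add_zero]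
    calc r * t₀ * σ γ * α - r * σ t₀ * σ α * γ = r * A₀ := by rw [hA₀]; ring
      _ = l := by rw [hr, div_mul_cancel₀ _ hA0]
  have e2 : r * t₀ * σ ε * α - σ (r * t₀) * σ β * γ + (l * σ Q - r * C₀) = l * (1 * σ Q) := by
    rw [map_mul, hσr, hC₀]
    ring
  have e3 : r * t₀ * σ ε * β - σ (r * t₀) * σ β * ε + 0 = l * (Q * σ Q) := by
    rw [map_mul, hσr, hQ, add_zero]
    calc r * t₀ * σ ε * β - r * σ t₀ * σ β * ε = r * B₀ := by rw [hB₀]; ring
      _ = l * (B₀ / A₀) := by rw [hr]; ring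
  rwa [e1, e2, e3] at h1

variable (P : SingPair f X Y)
include P

/-- a centre outside both planes gives one inside -/
theorem pair_centre_side {H : Subgroup (GL ι F)} (hM : M ≤ isoU f)
    (hHM : H ⊓ (isoU f ⊓ specialLinear ι F) ≤ M)
    (hH : ∀ g, g ∈ H ↔ ((∀ x ∈ X, (g : Matrix ι ι F) *ᵥ x ∈ X) ∧ ∀ y ∈ Y, (g : Matrix ι ι F) *ᵥ y ∈ Y) ∨
      ((∀ x ∈ X, (g : Matrix ι ι F) *ᵥ x ∈ Y) ∧ ∀ y ∈ Y, (g : Matrix ι ι F) *ᵥ y ∈ X))
    (hXY : ∀ a ∈ X, ∀ b ∈ Y, f a b = 0 → ShearIn f M a b) {s : F} (hs : σ s = s) (hs0 : s ≠ 0) (hs1 : s ^ 2 ≠ 1)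
    {a b : ι → F} (ha : a ∈ X) (hb : b ∈ Y) (ha0 : a ≠ 0) (hb0 : b ≠ 0) (hc : a + b ∈ centres hf M) :
    ∃ c, (c ∈ X ∨ c ∈ Y) ∧ c ≠ 0 ∧ c ∈ centres hf M := by
  classical
  have haa := P.singX a ha a ha
  have hbb := P.singY b hb b hb
  by_cases hd : f a b = 0
  · refine ⟨a, Or.inl ha, ha0, ?_⟩
    obtain ⟨y₀, hy₀, hay₀⟩ := pair_partner hf P ha ha0
    obtain ⟨y, hy, hay⟩ : ∃ y ∈ Y, f a y = 1 := ⟨(σ (f a y₀))⁻¹ • y₀, Y.smul_mem _ hy₀, by
      rw [herm_smul_right hf, map_inv₀, hf.involutive, inv_mul_cancel₀ hay₀]⟩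
    have hya : f y a = 1 := by rw [hf.herm, hay, map_one]
    have hyy := P.singY y hy y hy
    obtain ⟨T₀, hT₀⟩ : ∃ T₀ : Matrix ι ι F,
        T₀ = 1 + vecMulVec ((s - 1) • a) (hv hf y) + vecMulVec ((s⁻¹ - 1) • y) (hv hf a) := ⟨_, rfl⟩
    have hdet : T₀.det = 1 := by
      rw [hT₀, det_one_add_two hf, dotProduct_smul, dotProduct_smul, dotProduct_smul, dotProduct_smul, hv_dot,
        hv_dot, hv_dot, hv_dot, hay, hya, haa, hyy]
      simp only [smul_eq_mul]
      field_simp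
      ring
    let T : GL ι F := Matrix.GeneralLinearGroup.mkOfDetNeZero T₀ (by rw [hdet]; exact one_ne_zero)
    have hTz : ∀ z, (T : Matrix ι ι F) *ᵥ z = z + ((s - 1) * f z y) • a + ((s⁻¹ - 1) * f z a) • y := fun z => by
      show T₀ *ᵥ z = _
      rw [hT₀, add_mulVec, add_mulVec, one_mulVec, vecMulVec_mulVec, vecMulVec_mulVec, op_smul_eq_smul,
        op_smul_eq_smul, hv_dot, hv_dot, smul_smul, smul_smul, mul_comm (f z y), mul_comm (f z a)]
    have hTM : T ∈ M := by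
      refine hHM ⟨(hH T).2 (Or.inl ⟨fun x hx => ?_, fun w hw => ?_⟩), mem_isoU.2 fun z w => ?_, Units.ext hdet⟩
      · rw [hTz, P.singX x hx a ha, mul_zero, zero_smul, add_zero]
        exact X.add_mem hx (X.smul_mem _ ha)
      · rw [hTz, P.singY w hw y hy, mul_zero, zero_smul, add_zero]
        exact Y.add_mem hw (Y.smul_mem _ hy)
      · simp only [hTz, hf.add_left, herm_add_right hf, hf.smul_left, herm_smul_right hf, hay, hya, haa, hyy,
          map_mul, map_sub, map_inv₀, map_one, hs, ← hf.herm]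
        field_simp
        ring
    have hTa : (T : Matrix ι ι F) *ᵥ a = s • a := by
      rw [hTz, hay, haa, mul_zero, zero_smul, add_zero]
      module
    have hTb : (T : Matrix ι ι F) *ᵥ b = b := by
      rw [hTz, P.singY b hb y hy, herm_swap_zero hf hd, mul_zero, mul_zero, zero_smul, zero_smul, add_zero, add_zero]
    have hs1' : s ^ 2 - 1 ≠ 0 := sub_ne_zero.2 hs1
    have h1 : ∀ l : F, σ l = -l → QIn σ f M a b l 0 l := by
      intro l hl
      have h2 := qIn_of_centre hf (u := a) (v := b) (P := 1) (Q := 1) (by rwa [one_smul, one_smul]) hl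
      have h3 := QIn.add hf haa hbb hd h2
        (qIn_of_shear hf (hXY ((-l) • a) (X.smul_mem _ ha) b hb (by rw [hf.smul_left, hd, mul_zero])))
      simpa using h3
    have h2 := centre_of_qIn hf (u := a) (v := b) (P := 1) (Q := 0) haa hbb hd fun l hl => by
      obtain ⟨l', hl'⟩ : ∃ l', l' = l / (s ^ 2 - 1) := ⟨_, rfl⟩
      have hl'σ : σ l' = -l' := by rw [hl', map_div₀, map_sub, map_pow, hs, map_one, hl, neg_div]
      have h3 := (h1 l' hl'σ).conj hf hM hTM
      rw [hTa, hTb] at h3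
      have h4 := QIn.add hf haa hbb hd (QIn.smul_left hf s h3) (QIn.neg hf haa hbb hd (h1 l' hl'σ))
      convert h4 using 1
      · rw [hs, map_one, hl']
        field_simp
        ring
      · rw [map_zero]; ring
      · rw [map_zero]; ring
    simpa using h2
  obtain ⟨y, hy, hy0, hay⟩ := pair_orth hf P a
  refine ⟨y, Or.inr hy, hy0, ?_⟩
  have hyy := P.singY y hy y hy
  have hpy : f (a + b) y = 0 := by rw [hf.add_left, hay, P.singY b hb y hy, add_zero]
  have hline : ∀ c : F, (a + b) + c • y ∈ centres hf M := by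
    intro c
    have hba : f b a ≠ 0 := fun h => hd (herm_swap_zero hf h)
    obtain ⟨g, hg, hgf⟩ := hXY a ha ((-c / f b a) • y) (Y.smul_mem _ hy) (by rw [herm_smul_right hf, hay, mul_zero])
    have h1 := centres_conj hf hM hg hc
    rw [hgf, herm_smul_right hf, hpy, mul_zero, zero_smul, add_zero, hf.add_left, haa, zero_add, smul_smul,
      mul_div_cancel₀ _ hba, neg_smul, sub_neg_eq_add] at h1
    exact h1
  obtain ⟨c, hc'⟩ := exists_trace hf (d := (1 : F)) (map_one σ)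
  have h2 := centre_of_qIn hf (u := a + b) (v := y) (P := 0) (Q := 1) hc.1 hyy hpy fun l hl => by
    have T : ∀ e : F, QIn σ f M (a + b) y l (l * σ e) (l * (e * σ e)) := fun e => by
      have := qIn_of_centre hf (u := a + b) (v := y) (P := 1) (Q := e) (by rw [one_smul]; exact hline e) hl
      simpa using this
    have h3 := QIn.add hf hc.1 hyy hpy (QIn.add hf hc.1 hyy hpy (T (c + 1)) (QIn.neg hf hc.1 hyy hpy (T c)))
      (QIn.add hf hc.1 hyy hpy (QIn.neg hf hc.1 hyy hpy (T 1)) (T 0))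
    convert h3 using 1
    · rw [map_zero]; ring
    · rw [map_add, map_one, map_zero]; ring
    · rw [map_add, map_one, map_zero]; linear_combination -l * hc'
  simpa using h2

/-- a line missing both planes gives a centre in one of them -/
theorem centre_of_graph {H : Subgroup (GL ι F)} (hM : M ≤ isoU f)
    (hHM : H ⊓ (isoU f ⊓ specialLinear ι F) ≤ M)
    (hH : ∀ g, g ∈ H ↔ ((∀ x ∈ X, (g : Matrix ι ι F) *ᵥ x ∈ X) ∧ ∀ y ∈ Y, (g : Matrix ι ι F) *ᵥ y ∈ Y) ∨
      ((∀ x ∈ X, (g : Matrix ι ι F) *ᵥ x ∈ Y) ∧ ∀ y ∈ Y, (g : Matrix ι ι F) *ᵥ y ∈ X))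
    (hXY : ∀ a ∈ X, ∀ b ∈ Y, f a b = 0 → ShearIn f M a b) (hn : Fintype.card ι = 4) {s : F} (hs : σ s = s)
    (hs0 : s ≠ 0) (hs1 : s ^ 2 ≠ 1) (huu : f u u = 0) (hvv : f v v = 0) (huv : f u v = 0)
    (hind : ∀ r t : F, r • u + t • v = 0 → r = 0 ∧ t = 0)
    (hX0 : ∀ z ∈ Submodule.span F ({u, v} : Set (ι → F)), z ∈ X → z = 0)
    (hY0 : ∀ z ∈ Submodule.span F ({u, v} : Set (ι → F)), z ∈ Y → z = 0)
    (hsh : ∀ t : F, ShearIn f M (t • u) v) :
    ∃ c, (c ∈ X ∨ c ∈ Y) ∧ c ≠ 0 ∧ c ∈ centres hf M := by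
  classical
  obtain ⟨L, hL⟩ : ∃ L, L = Submodule.span F ({u, v} : Set (ι → F)) := ⟨_, rfl⟩
  rw [← hL] at hX0 hY0
  have hvu := herm_swap_zero hf huv
  have huL : u ∈ L := hL ▸ Submodule.subset_span (by simp)
  have hvL : v ∈ L := hL ▸ Submodule.subset_span (by simp)
  have hLL : ∀ z ∈ L, ∀ z' ∈ L, f z z' = 0 := by
    intro z hz z' hz'
    obtain ⟨r, t, rfl⟩ := Submodule.mem_span_pair.1 (hL ▸ hz)
    obtain ⟨r', t', rfl⟩ := Submodule.mem_span_pair.1 (hL ▸ hz')
    simp only [hf.add_left, hf.smul_left, herm_add_right hf, herm_smul_right hf, huu, hvv, huv, hvu, mul_zero,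
      add_zero]
  have hdim : Module.finrank F L = 2 := by
    rw [hL, ← Matrix.range_cons_cons_empty u v, finrank_span_eq_card]
    · simp
    · rw [LinearIndependent.pair_iff]; exact hind
  -- the fixed vector of a shear inside the line
  obtain ⟨w₁, w₂, hw0, a, ha, b, hb, hw, hab⟩ : ∃ w₁ w₂ : F, (w₁ ≠ 0 ∨ w₂ ≠ 0) ∧ ∃ a ∈ X, ∃ b ∈ Y,
      w₁ • u + w₂ • v = a + b ∧ f a b = 0 := by
    obtain ⟨u₁, hu₁, u₂, hu₂, hu⟩ := P.split u
    obtain ⟨v₁, hv₁, v₂, hv₂, hv'⟩ := P.split v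
    by_cases hβ : f v₁ v₂ = 0
    · exact ⟨0, 1, Or.inr one_ne_zero, v₁, hv₁, v₂, hv₂, by rw [zero_smul, zero_add, one_smul, hv'], hβ⟩
    obtain ⟨α, hα⟩ : ∃ α, α = f u₁ u₂ := ⟨_, rfl⟩
    obtain ⟨β, hβdef⟩ : ∃ β, β = f v₁ v₂ := ⟨_, rfl⟩
    obtain ⟨γ, hγ⟩ : ∃ γ, γ = f u₁ v₂ := ⟨_, rfl⟩
    rw [← hβdef] at hβ
    have hzero : ∀ (x y x' y' : ι → F), x ∈ X → y ∈ Y → x' ∈ X → y' ∈ Y →
        f (x + y) (x' + y') = f x y' + σ (f x' y) := fun x y x' y' hx hy hx' hy' => by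
      rw [hf.add_left, herm_add_right hf, herm_add_right hf, P.singX x hx x' hx', P.singY y hy y' hy', hf.herm y x']
      ring
    have hασ : σ α = -α := by
      have h := huu
      rw [hu, hzero _ _ _ _ hu₁ hu₂ hu₁ hu₂, ← hα] at h
      linear_combination h
    have hβσ : σ β = -β := by
      have h := hvv
      rw [hv', hzero _ _ _ _ hv₁ hv₂ hv₁ hv₂, ← hβdef] at h
      linear_combination h
    have hvu₂ : f v₁ u₂ = -σ γ := by
      have h := huv
      rw [hu, hv', hzero _ _ _ _ hu₁ hu₂ hv₁ hv₂, ← hγ] at h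
      have h' := congrArg σ h
      rw [map_add, map_zero, hf.involutive] at h'
      linear_combination h'
    obtain ⟨k, hk⟩ := exists_norm hf (d := -(α + γ * σ γ / β) / β) (by
      rw [map_div₀, map_neg, map_add, map_div₀, map_mul, hf.involutive, hασ, hβσ]
      field_simp
      ring)
    refine ⟨1, k - γ / β, Or.inl one_ne_zero, u₁ + (k - γ / β) • v₁, X.add_mem hu₁ (X.smul_mem _ hv₁),
      u₂ + (k - γ / β) • v₂, Y.add_mem hu₂ (Y.smul_mem _ hv₂), by rw [hu, hv']; module, ?_⟩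
    simp only [hf.add_left, hf.smul_left, herm_add_right hf, herm_smul_right hf, ← hα, ← hβdef, ← hγ, hvu₂,
      map_sub, map_div₀, hβσ]
    field_simp at hk ⊢
    linear_combination hk
  obtain ⟨w, hwdef⟩ : ∃ w, w = w₁ • u + w₂ • v := ⟨_, rfl⟩
  rw [← hwdef] at hw
  have hwL : w ∈ L := hwdef ▸ L.add_mem (L.smul_mem _ huL) (L.smul_mem _ hvL)
  have hwne : w ≠ 0 := fun h => by
    obtain ⟨e1, e2⟩ := hind w₁ w₂ (hwdef ▸ h)
    exact hw0.elim (fun h' => h' e1) (fun h' => h' e2)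
  have hb0 : b ≠ 0 := fun h => hwne (hX0 w hwL (by rw [hw, h, add_zero]; exact ha))
  obtain ⟨p₁, hp₁⟩ : ∃ p₁, p₁ = f u b := ⟨_, rfl⟩
  obtain ⟨p₂, hp₂⟩ : ∃ p₂, p₂ = f v b := ⟨_, rfl⟩
  have hp0 : p₁ ≠ 0 ∨ p₂ ≠ 0 := by
    by_contra hcon
    push Not at hcon
    refine hb0 (hY0 b (mem_of_half hf (isNondegenerateOn_top hf) Submodule.mem_top ?_ le_top hLL fun z hz => ?_) hb)
    · rw [finrank_top, Module.finrank_fintype_fun_eq_card, hn, hdim]
    · obtain ⟨r, t, rfl⟩ := Submodule.mem_span_pair.1 (hL ▸ hz)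
      rw [hf.add_left, hf.smul_left, hf.smul_left, ← hp₁, ← hp₂, hcon.1, hcon.2, mul_zero, mul_zero, add_zero]
  have hlin : w₁ * p₁ + w₂ * p₂ = 0 := by
    have h : f w b = 0 := by rw [hw, hf.add_left, hab, P.singY b hb b hb, add_zero]
    rw [hwdef, hf.add_left, hf.smul_left, hf.smul_left, ← hp₁, ← hp₂] at h
    exact h
  have hmove : ∀ r : F, σ r = r → ∀ t : F,
      ShearIn f M (t • ((1 + r * p₁ * w₁) • u + (r * p₁ * w₂) • v)) ((r * p₂ * w₁) • u + (1 + r * p₂ * w₂) • v) := by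
    intro r hr t
    obtain ⟨e, he, hez⟩ := hXY (r • a) (X.smul_mem r ha) b hb (by rw [hf.smul_left, hab, mul_zero])
    have hez' : ∀ z ∈ L, (e : Matrix ι ι F) *ᵥ z = z + (r * f z b) • w := fun z hz => by
      have h0 : f z a = -f z b := by
        have h := hLL z hz w hwL
        rw [hw, herm_add_right hf] at h
        linear_combination h
      rw [hez, herm_smul_right hf, h0, hr, hw]
      module
    have h1 := (hsh t).conj hf hM he
    rw [mulVec_smul, hez' u huL, hez' v hvL, ← hp₁, ← hp₂, hwdef] at h1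
    convert h1 using 1 <;> module
  -- a centre on the line
  obtain ⟨p, hpL, hp, hpne⟩ : ∃ p ∈ L, p ∈ centres hf M ∧ p ≠ 0 := by
    have hflip : ∀ c : F, ShearIn f M (c • v) u := fun c => by
      obtain ⟨g, hg, hgz⟩ := hsh (-σ c)
      refine ⟨g, hg, fun z => ?_⟩
      rw [hgz, herm_smul_right hf, herm_smul_right hf, map_neg, hf.involutive]
      module
    have hpick : ∀ m : F, m ≠ 0 → ∃ r : F, σ r = r ∧ r ≠ 0 ∧ 1 + r * m ≠ 0 := fun m hm => by
      by_cases h : 1 + m = 0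
      · refine ⟨s, hs, hs0, fun h' => hs1 ?_⟩
        have : m * (s - 1) = 0 := by linear_combination h' - h
        rw [sub_eq_zero.1 ((mul_eq_zero.1 this).resolve_left hm), one_pow]
      · exact ⟨1, map_one σ, one_ne_zero, by rwa [one_mul]⟩
    by_cases hne : p₂ * w₁ = 0
    · have hne' : p₁ * w₂ ≠ 0 := by
        intro h
        rcases mul_eq_zero.1 hne with h1 | h1 <;> rcases mul_eq_zero.1 h with h2 | h2
        · exact hp0.elim (fun e => e h2) (fun e => e h1)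
        · rw [h1, h2, zero_mul, add_zero, mul_eq_zero] at hlin
          exact hlin.elim (fun e => hw0.elim (fun e' => e' e) (fun e' => e' h2))
            (fun e => hp0.elim (fun e' => e' e) (fun e' => e' h1))
        · rw [h1, h2, zero_mul, zero_add, mul_eq_zero] at hlin
          exact hlin.elim (fun e => hw0.elim (fun e' => e' h1) (fun e' => e' e))
            (fun e => hp0.elim (fun e' => e' h2) (fun e' => e' e))
        · exact hw0.elim (fun e => e h1) (fun e => e h2)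
      obtain ⟨r, hr, hr0, hr1⟩ : ∃ r : F, σ r = r ∧ r ≠ 0 ∧ 1 + r * (p₂ * w₂) ≠ 0 := by
        by_cases h : p₂ * w₂ = 0
        · exact ⟨1, map_one σ, one_ne_zero, by rw [h, mul_zero, add_zero]; exact one_ne_zero⟩
        · exact hpick _ h
      obtain ⟨Q, hQ⟩ := centre_of_shears hf hvv huu hvu hflip
        (α := 1 + r * p₂ * w₂) (β := r * p₂ * w₁) (γ := r * p₁ * w₂) (ε := 1 + r * p₁ * w₁) (fun t => by
          obtain ⟨g, hg, hgz⟩ := hmove r hr (-σ t)
          refine ⟨g, hg, fun z => ?_⟩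
          rw [hgz]
          simp only [herm_smul_right hf, herm_add_right hf, map_neg, hf.involutive]
          module)
        (mul_ne_zero (by rwa [mul_assoc]) (by rw [mul_assoc]; exact mul_ne_zero hr0 hne'))
      exact ⟨_, L.add_mem (L.smul_mem _ hvL) (L.smul_mem _ huL), hQ,
        fun h => one_ne_zero (hind Q 1 (by rw [add_comm]; exact h)).2⟩
    · obtain ⟨r, hr, hr0, hr1⟩ : ∃ r : F, σ r = r ∧ r ≠ 0 ∧ 1 + r * (p₁ * w₁) ≠ 0 := by
        by_cases h : p₁ * w₁ = 0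
        · exact ⟨1, map_one σ, one_ne_zero, by rw [h, mul_zero, add_zero]; exact one_ne_zero⟩
        · exact hpick _ h
      obtain ⟨Q, hQ⟩ := centre_of_shears hf huu hvv huv hsh (hmove r hr)
        (mul_ne_zero (by rwa [mul_assoc]) (by rw [mul_assoc]; exact mul_ne_zero hr0 hne))
      exact ⟨_, L.add_mem (L.smul_mem _ huL) (L.smul_mem _ hvL), hQ, fun h => one_ne_zero (hind 1 Q h).1⟩
  obtain ⟨x, hx, y, hy, rfl⟩ := P.split p
  exact pair_centre_side hf P hM hHM hH hXY hs hs0 hs1 hx hy (fun h => hpne (hY0 _ hpL (by rw [h, zero_add]; exact hy)))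
    (fun h => hpne (hX0 _ hpL (by rw [h, add_zero]; exact hx))) hp

/-- a singular line through a vector of one plane, whose shears lie in `M`, meets the other plane -/
theorem pair_meet (hM : M ≤ isoU f) (hXY : ∀ a ∈ X, ∀ b ∈ Y, f a b = 0 → ShearIn f M a b)
    (hno : ∀ a ∈ X, a ≠ 0 → a ∉ centres hf M) (hn : Fintype.card ι = 4) (huu : f u u = 0) (hvv : f v v = 0)
    (huv : f u v = 0) (hind : ∀ r t : F, r • u + t • v = 0 → r = 0 ∧ t = 0) (hsh : ∀ t : F, ShearIn f M (t • u) v)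
    {a : ι → F} (ha : a ∈ X) (ha0 : a ≠ 0) (haL : a ∈ Submodule.span F ({u, v} : Set (ι → F))) :
    ∃ b ∈ Y, b ≠ 0 ∧ b ∈ Submodule.span F ({u, v} : Set (ι → F)) := by
  classical
  obtain ⟨y, hy, hy0, hay⟩ := pair_orth hf P a
  obtain ⟨k, hk, hkz⟩ := hsh 1
  rw [one_smul] at hkz
  have hvu := herm_swap_zero hf huv
  obtain ⟨r, t, rfl⟩ := Submodule.mem_span_pair.1 haL
  have hka : (k : Matrix ι ι F) *ᵥ (r • u + t • v) = r • u + t • v := by
    rw [hkz]
    simp only [hf.add_left, hf.smul_left, huu, hvv, huv, hvu, mul_zero, add_zero, zero_smul, sub_zero]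
  have hky := Y.sub_mem (pair_side_one hf P hM hXY hk ha ha0 hka hno y hy hay) hy
  rw [hkz, show y + f y v • u - f y u • v - y = f y v • u + (-f y u) • v by module] at hky
  by_cases hd : f y v • u + (-f y u) • v = 0
  · obtain ⟨e1, e2⟩ := hind _ _ hd
    refine ⟨y, hy, hy0, mem_of_half hf (isNondegenerateOn_top hf) Submodule.mem_top ?_ le_top ?_ ?_⟩
    · rw [finrank_top, Module.finrank_fintype_fun_eq_card, hn, ← Matrix.range_cons_cons_empty u v,
        finrank_span_eq_card]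
      · simp
      · rw [LinearIndependent.pair_iff]; exact hind
    · intro z hz z' hz'
      obtain ⟨r, t, rfl⟩ := Submodule.mem_span_pair.1 hz
      obtain ⟨r', t', rfl⟩ := Submodule.mem_span_pair.1 hz'
      simp only [hf.add_left, hf.smul_left, herm_add_right hf, herm_smul_right hf, huu, hvv, huv, hvu, mul_zero,
        add_zero]
    · intro z hz
      obtain ⟨r', t', rfl⟩ := Submodule.mem_span_pair.1 hz
      rw [hf.add_left, hf.smul_left, hf.smul_left, herm_swap_zero hf (neg_eq_zero.1 e2), herm_swap_zero hf e1,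
        mul_zero, mul_zero, add_zero]
  · exact ⟨_, hky, hd, Submodule.mem_span_pair.2 ⟨_, _, rfl⟩⟩

/-- orthogonal vectors of a plane to a vector of the other form a line -/
theorem pair_orth_unique (hdX : Module.finrank F X = 2) {a a' b : ι → F} (ha : a ∈ X) (ha' : a' ∈ X) (hb : b ∈ Y)
    (ha0 : a ≠ 0) (hb0 : b ≠ 0) (hab : f a b = 0) (hab' : f a' b = 0) :
    a' ∈ Submodule.span F ({a} : Set (ι → F)) := by
  classical
  by_contra hout
  obtain ⟨x, hx, hbx⟩ := pair_partner hf P.symm hb hb0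
  have hle : Submodule.span F ({a, a'} : Set (ι → F)) ≤ X := Submodule.span_le.2 (Set.pair_subset ha ha')
  have h2 : Module.finrank F (Submodule.span F ({a, a'} : Set (ι → F))) = 2 := by
    rw [← Matrix.range_cons_cons_empty a a', finrank_span_eq_card]
    · simp
    · rw [LinearIndependent.pair_iff]
      intro r t h
      rcases eq_or_ne t 0 with rfl | ht
      · rw [zero_smul, add_zero, smul_eq_zero] at h
        exact ⟨h.resolve_right ha0, rfl⟩
      · refine absurd (Submodule.mem_span_singleton.2 ⟨-(r / t), ?_⟩) hout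
        rw [show a' = t⁻¹ • (t • a') by rw [smul_smul, inv_mul_cancel₀ ht, one_smul],
          show t • a' = -(r • a) from eq_neg_of_add_eq_zero_right h, smul_neg, smul_smul, neg_smul]
        ring_nf
  rw [← Submodule.eq_of_le_of_finrank_eq hle (h2.trans hdX.symm)] at hx
  obtain ⟨r, t, rfl⟩ := Submodule.mem_span_pair.1 hx
  rw [herm_add_right hf, herm_smul_right hf, herm_smul_right hf, herm_swap_zero hf hab, herm_swap_zero hf hab',
    mul_zero, mul_zero, add_zero] at hbx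
  exact hbx rfl

/-- elements respecting the cross lines map a plane to one of the planes -/
theorem pair_side_two (hdX : Module.finrank F X = 2) (hdY : Module.finrank F Y = 2) {g : GL ι F}
    (hg : Cross f X Y g) :
    (∀ x ∈ X, (g : Matrix ι ι F) *ᵥ x ∈ X) ∨ ∀ x ∈ X, (g : Matrix ι ι F) *ᵥ x ∈ Y := by
  classical
  have hsingle : ∀ x ∈ X, ∀ a₁ ∈ X, ∀ b₁ ∈ Y, (g : Matrix ι ι F) *ᵥ x = a₁ + b₁ → f a₁ b₁ = 0 := by
    intro x hx a₁ ha₁ b₁ hb₁ h
    rcases eq_or_ne x 0 with rfl | hx0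
    · rw [mulVec_zero] at h
      obtain ⟨e, -⟩ := P.split_unique ha₁ X.zero_mem hb₁ Y.zero_mem (by rw [← h, add_zero])
      rw [e, herm_zero_left hf]
    obtain ⟨y, hy, hy0, hxy⟩ := pair_orth hf P x
    obtain ⟨a, ha, -, b, hb, -, hab, hgx, -⟩ := hg x hx hx0 y hy hy0 hxy
    obtain ⟨r, t, hrt⟩ := Submodule.mem_span_pair.1 hgx
    obtain ⟨e1, e2⟩ := P.split_unique ha₁ (X.smul_mem r ha) hb₁ (Y.smul_mem t hb) (h.symm.trans hrt.symm)
    rw [e1, e2, hf.smul_left, herm_smul_right hf, hab, mul_zero, mul_zero]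
  have hzero : ∀ x ∈ X, ∀ x' ∈ X, ∀ a₁ ∈ X, ∀ b₁ ∈ Y, ∀ a₂ ∈ X, ∀ b₂ ∈ Y, (g : Matrix ι ι F) *ᵥ x = a₁ + b₁ →
      (g : Matrix ι ι F) *ᵥ x' = a₂ + b₂ → f a₁ b₂ = 0 := by
    intro x hx x' hx' a₁ ha₁ b₁ hb₁ a₂ ha₂ b₂ hb₂ h₁ h₂
    have key : ∀ t : F, σ t * f a₁ b₂ + t * f a₂ b₁ = 0 := fun t => by
      have h := hsingle _ (X.add_mem hx (X.smul_mem t hx')) _ (X.add_mem ha₁ (X.smul_mem t ha₂)) _
        (Y.add_mem hb₁ (Y.smul_mem t hb₂)) (by rw [mulVec_add, mulVec_smul, h₁, h₂]; module)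
      rw [hf.add_left, herm_add_right hf, herm_add_right hf, hf.smul_left, hf.smul_left, herm_smul_right hf,
        herm_smul_right hf, hsingle x hx a₁ ha₁ b₁ hb₁ h₁, hsingle x' hx' a₂ ha₂ b₂ hb₂ h₂] at h
      linear_combination h
    obtain ⟨θ, hθ⟩ := exists_not_fixed hf
    have h1 := key 1
    rw [map_one, one_mul, one_mul] at h1
    have h2 : (σ θ - θ) * f a₁ b₂ = 0 := by linear_combination key θ - θ * h1
    exact (mul_eq_zero.1 h2).resolve_left (sub_ne_zero.2 hθ)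
  by_contra hcon
  push Not at hcon
  obtain ⟨⟨x', hx', hgx'⟩, x, hx, hgx⟩ := hcon
  obtain ⟨a₁, ha₁, b₁, hb₁, h₁⟩ := P.split ((g : Matrix ι ι F) *ᵥ x)
  obtain ⟨a₂, ha₂, b₂, hb₂, h₂⟩ := P.split ((g : Matrix ι ι F) *ᵥ x')
  have ha10 : a₁ ≠ 0 := fun h => hgx (by rw [h₁, h, zero_add]; exact hb₁)
  have hb20 : b₂ ≠ 0 := fun h => hgx' (by rw [h₂, h, add_zero]; exact ha₂)
  have hab := hzero x hx x' hx' a₁ ha₁ b₁ hb₁ a₂ ha₂ b₂ hb₂ h₁ h₂
  obtain ⟨S, hS⟩ : ∃ S, S = Submodule.span F ({a₁, b₂} : Set (ι → F)) := ⟨_, rfl⟩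
  have hXS : ∀ z ∈ X, (g : Matrix ι ι F) *ᵥ z ∈ S := by
    intro z hz
    obtain ⟨a, ha, b, hb, h⟩ := P.split ((g : Matrix ι ι F) *ᵥ z)
    obtain ⟨r, hr⟩ := Submodule.mem_span_singleton.1 (pair_orth_unique hf P hdX ha₁ ha hb₂ ha10 hb20 hab
      (hzero z hz x' hx' a ha b hb a₂ ha₂ b₂ hb₂ h h₂))
    obtain ⟨t, ht⟩ := Submodule.mem_span_singleton.1 (pair_orth_unique hf P.symm hdY hb₂ hb ha₁ hb20 ha10
      (herm_swap_zero hf hab) (herm_swap_zero hf (hzero x hx z hz a₁ ha₁ b₁ hb₁ a ha b hb h₁ h)))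
    rw [h, hS, Submodule.mem_span_pair]
    exact ⟨r, t, by rw [hr, ht]⟩
  have hx0 : x ≠ 0 := fun h => hgx (by rw [h, mulVec_zero]; exact Y.zero_mem)
  obtain ⟨y, hy, hy0, hxy⟩ := pair_orth hf P x
  obtain ⟨a, ha, ha0, b, hb, hb0, hab', hgx₂, hgy⟩ := hg x hx hx0 y hy hy0 hxy
  obtain ⟨r, t, hrt⟩ := Submodule.mem_span_pair.1 hgx₂
  obtain ⟨e1, -⟩ := P.split_unique ha₁ (X.smul_mem r ha) hb₁ (Y.smul_mem t hb) (h₁.symm.trans hrt.symm)
  have hr0 : r ≠ 0 := fun h => ha10 (by rw [e1, h, zero_smul])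
  obtain ⟨t', ht'⟩ := Submodule.mem_span_singleton.1 (pair_orth_unique hf P.symm hdY hb₂ hb ha₁ hb20 ha10
    (herm_swap_zero hf hab) (herm_swap_zero hf (by rw [e1, hf.smul_left, hab', mul_zero])))
  have hgyS : (g : Matrix ι ι F) *ᵥ y ∈ S := by
    refine Submodule.span_le.2 ?_ hgy
    rw [hS]
    refine Set.pair_subset ?_ ?_
    · rw [SetLike.mem_coe, Submodule.mem_span_pair]
      exact ⟨r⁻¹, 0, by rw [e1, smul_smul, inv_mul_cancel₀ hr0, one_smul, zero_smul, add_zero]⟩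
    · rw [SetLike.mem_coe, Submodule.mem_span_pair]
      exact ⟨0, t', by rw [zero_smul, zero_add, ht']⟩
  have hinj : Function.Injective (Matrix.toLin' (g : Matrix ι ι F)) := fun p q hpq => by
    have := congrArg (fun z => ((g⁻¹ : GL ι F) : Matrix ι ι F) *ᵥ z) hpq
    simpa only [Matrix.toLin'_apply, gl_inv_mulVec] using this
  have hmap : X.map (Matrix.toLin' (g : Matrix ι ι F)) = S := by
    refine Submodule.eq_of_le_of_finrank_le ?_ ?_
    · rintro _ ⟨z, hz, rfl⟩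
      rw [Matrix.toLin'_apply]
      exact hXS z hz
    · rw [← (Submodule.equivMapOfInjective _ hinj X).finrank_eq, hdX, hS]
      refine (finrank_span_le_card _).trans ?_
      rw [Set.toFinset_insert, Set.toFinset_singleton]
      exact Finset.card_le_two
  rw [← hmap] at hgyS
  obtain ⟨z, hz, hzy⟩ := hgyS
  rw [← Matrix.toLin'_apply] at hzy
  exact hy0 (P.eq_zero (hinj hzy ▸ hz) hy)

/-- stabilisers of pairs of totally singular planes are maximal -/
theorem pair_maximal_four (hdX : Module.finrank F X = 2) (hdY : Module.finrank F Y = 2)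
    (h16 : 16 ≤ Fintype.card F) {H : Subgroup (GL ι F)}
    (hH : ∀ g, g ∈ H ↔ ((∀ x ∈ X, (g : Matrix ι ι F) *ᵥ x ∈ X) ∧ ∀ y ∈ Y, (g : Matrix ι ι F) *ᵥ y ∈ Y) ∨
      ((∀ x ∈ X, (g : Matrix ι ι F) *ᵥ x ∈ Y) ∧ ∀ y ∈ Y, (g : Matrix ι ι F) *ᵥ y ∈ X)) :
    IsMaximalIn (isoU f ⊓ specialLinear ι F) (H ⊓ (isoU f ⊓ specialLinear ι F)) := by
  classical
  have hn : Fintype.card ι = 4 := by
    have := Submodule.finrank_sup_add_finrank_inf_eq X Y
    rw [P.sup, P.inf, finrank_top, finrank_bot, Module.finrank_fintype_fun_eq_card, hdX, hdY] at this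
    omega
  obtain ⟨s, hs, hs0, hs1⟩ : ∃ s : F, σ s = s ∧ s ≠ 0 ∧ s ^ 2 ≠ 1 := by
    obtain ⟨q, hq, hF, hS, -⟩ := exists_sizes hf
    have hq4 : 4 ≤ q := by nlinarith
    by_contra hcon
    push Not at hcon
    have hle : Fintype.card {x : F // σ x = x} ≤ 3 := by
      rw [← Finset.card_univ, ← Finset.card_map (Function.Embedding.subtype _)]
      refine (Finset.card_le_card (t := ({0, 1, -1} : Finset F)) fun x hx => ?_).trans Finset.card_le_three
      obtain ⟨⟨y, hy⟩, -, rfl⟩ := Finset.mem_map.1 hx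
      by_cases h0 : y = 0
      · simp [h0]
      rcases sq_eq_one_iff.1 (hcon y hy h0) with h | h <;> simp [h]
    rw [← Nat.card_eq_fintype_card, hS] at hle
    omega
  refine pair_maximal_aux hf P hH fun M hM hHM hXY hYX hcon hconY g hg => ?_
  have hcross : Cross f X Y g := by
    intro x hx hx0 y hy hy0 hxy
    obtain ⟨u, hu⟩ : ∃ u, u = (g : Matrix ι ι F) *ᵥ x := ⟨_, rfl⟩
    obtain ⟨v, hv'⟩ : ∃ v, v = (g : Matrix ι ι F) *ᵥ y := ⟨_, rfl⟩
    rw [← hu, ← hv']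
    have huu : f u u = 0 := by rw [hu, mem_isoU.1 (hM hg), P.singX x hx x hx]
    have hvv : f v v = 0 := by rw [hv', mem_isoU.1 (hM hg), P.singY y hy y hy]
    have huv : f u v = 0 := by rw [hu, hv', mem_isoU.1 (hM hg), hxy]
    have hind : ∀ r t : F, r • u + t • v = 0 → r = 0 ∧ t = 0 := by
      intro r t h
      rw [hu, hv', ← mulVec_smul, ← mulVec_smul, ← mulVec_add, gl_mulVec_eq_zero] at h
      obtain ⟨e1, e2⟩ := P.split_unique (X.smul_mem r hx) X.zero_mem (Y.smul_mem t hy) Y.zero_mem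
        (by rw [h, add_zero])
      exact ⟨(smul_eq_zero.1 e1).resolve_right hx0, (smul_eq_zero.1 e2).resolve_right hy0⟩
    have hsh : ∀ t : F, ShearIn f M (t • u) v := fun t => by
      have h1 := (hXY (t • x) (X.smul_mem t hx) y hy (by rw [hf.smul_left, hxy, mul_zero])).conj hf hM hg
      rwa [mulVec_smul, ← hu, ← hv'] at h1
    obtain ⟨a, ha, ha0, haL, b, hb, hb0, hbL⟩ : ∃ a ∈ X, a ≠ 0 ∧ a ∈ Submodule.span F ({u, v} : Set (ι → F)) ∧
        ∃ b ∈ Y, b ≠ 0 ∧ b ∈ Submodule.span F ({u, v} : Set (ι → F)) := by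
      by_cases hX0 : ∀ z ∈ Submodule.span F ({u, v} : Set (ι → F)), z ∈ X → z = 0
      · by_cases hY0 : ∀ z ∈ Submodule.span F ({u, v} : Set (ι → F)), z ∈ Y → z = 0
        · obtain ⟨c, hc | hc, hc0, hcc⟩ :=
            centre_of_graph hf P hM hHM hH hXY hn hs hs0 hs1 huu hvv huv hind hX0 hY0 hsh
          · exact absurd hcc (hcon c hc hc0)
          · exact absurd hcc (hconY c hc hc0)
        · push Not at hY0
          obtain ⟨b, hbL, hb, hb0⟩ := hY0
          obtain ⟨a, ha, ha0, haL⟩ := pair_meet hf P.symm hM hYX hconY hn huu hvv huv hind hsh hb hb0 hbL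
          exact ⟨a, ha, ha0, haL, b, hb, hb0, hbL⟩
      · push Not at hX0
        obtain ⟨a, haL, ha, ha0⟩ := hX0
        exact ⟨a, ha, ha0, haL, pair_meet hf P hM hXY hcon hn huu hvv huv hind hsh ha ha0 haL⟩
    have hab : f a b = 0 := by
      obtain ⟨r, t, rfl⟩ := Submodule.mem_span_pair.1 haL
      obtain ⟨r', t', rfl⟩ := Submodule.mem_span_pair.1 hbL
      simp only [hf.add_left, hf.smul_left, herm_add_right hf, herm_smul_right hf, huu, hvv, huv,
        herm_swap_zero hf huv, mul_zero, add_zero]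
    have hspan : Submodule.span F ({a, b} : Set (ι → F)) = Submodule.span F ({u, v} : Set (ι → F)) := by
      refine Submodule.eq_of_le_of_finrank_le (Submodule.span_le.2 (Set.pair_subset haL hbL)) ?_
      refine le_of_le_of_eq ((finrank_span_le_card _).trans (?_ : _ ≤ 2)) ?_
      · rw [Set.toFinset_insert, Set.toFinset_singleton]
        exact Finset.card_le_two
      · rw [← Matrix.range_cons_cons_empty a b, finrank_span_eq_card]
        · simp
        · rw [LinearIndependent.pair_iff]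
          intro r t h
          obtain ⟨e1, e2⟩ := P.split_unique (X.smul_mem r ha) X.zero_mem (Y.smul_mem t hb) Y.zero_mem
            (by rw [h, add_zero])
          exact ⟨(smul_eq_zero.1 e1).resolve_right ha0, (smul_eq_zero.1 e2).resolve_right hb0⟩
    exact ⟨a, ha, ha0, b, hb, hb0, hab, hspan ▸ Submodule.subset_span (by simp),
      hspan ▸ Submodule.subset_span (by simp)⟩
  have hcross' : Cross f Y X g := fun y hy hy0 x hx hx0 hyx => by
    obtain ⟨a, ha, ha0, b, hb, hb0, hab, h1, h2⟩ := hcross x hx hx0 y hy hy0 (herm_swap_zero hf hyx)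
    rw [Set.pair_comm] at h1 h2
    exact ⟨b, hb, hb0, a, ha, ha0, herm_swap_zero hf hab, h2, h1⟩
  have hbad : ∀ S : Submodule F (ι → F), (∀ x ∈ X, (g : Matrix ι ι F) *ᵥ x ∈ S) →
      (∀ y ∈ Y, (g : Matrix ι ι F) *ᵥ y ∈ S) → S = ⊤ := fun S h1 h3 => eq_top_iff.2 fun z _ => by
    rw [← gl_mulVec_inv g z]
    obtain ⟨x, hx, y, hy, hxy⟩ := P.split (((g⁻¹ : GL ι F) : Matrix ι ι F) *ᵥ z)
    rw [hxy, mulVec_add]
    exact S.add_mem (h1 x hx) (h3 y hy)
  rcases pair_side_two hf P hdX hdY hcross with h1 | h1 <;>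
    rcases pair_side_two hf P.symm hdY hdX hcross' with h3 | h3
  · exact Or.inl ⟨h1, h3⟩
  · have h4 := hbad X h1 h3
    rw [h4, finrank_top, Module.finrank_fintype_fun_eq_card, hn] at hdX
    omega
  · have h4 := hbad Y h1 h3
    rw [h4, finrank_top, Module.finrank_fintype_fun_eq_card, hn] at hdY
    omega
  · exact Or.inr ⟨h1, h3⟩

end CfsgLib.Perm.Trans.Unit
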