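import Cfsg.Agent.Lib.Perm.Trans.UnitSU
import Cfsg.Agent.Lib.Perm.Trans.UnitSubfSymp
import Cfsg.Agent.Lib.Perm.Trans.UnitFour.Pair
import Cfsg.Agent.Lib.Perm.Trans.UnitFour.Orth

/-!
# Geometric maximal subgroups of special unitary groups of degree four
-/

set_option autoImplicit false
set_option linter.all false

namespace CfsgLib.Perm.Trans.GeomSUFour

open Cfsg Cfsg.Geo
open scoped Matrix

variable {F : Type*} [Field F] [Fintype F] {q : ℕ}

/-- stabilisers of pairs of totally isotropic subspaces -/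
theorem pair_maximal_su4 (hF : Fintype.card F = q ^ 2) (hq : 4 ≤ q)
    (D : Fin 2 → Submodule F (Fin 4 → F)) (hD : IsMDecomposition 2 D)
    (hts : ∀ i, IsTotallySingularFor (hermForm 4 F q) (D i)) :
    IsMaximalIn (GU 4 F q ⊓ specialLinear (Fin 4) F) (decompositionStabilizer D ⊓ (GU 4 F q ⊓ specialLinear (Fin 4) F)) := by
  obtain ⟨C⟩ := CfsgLib.Perm.Trans.Unit.ctx_of_card hF
  have hsup : D 0 ⊔ D 1 = ⊤ := top_le_iff.1 (hD.iSup_eq_top ▸ iSup_le fun i => by
    fin_cases i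
    exacts [le_sup_left, le_sup_right])
  have hinf : D 0 ⊓ D 1 = ⊥ := (hD.indep.pairwiseDisjoint (show (0 : Fin 2) ≠ 1 by decide)).eq_bot
  have P : CfsgLib.Perm.Trans.Unit.SingPair (Cfsg.hermForm 4 F q) (D 0) (D 1) :=
    ⟨hts 0, hts 1, hsup, hinf, by rw [hD.finrank_eq], by rw [hD.finrank_eq]⟩
  have hmap : ∀ (g : Matrix.GeneralLinearGroup (Fin 4) F) i j,
      (∀ x ∈ D i, (g : Matrix (Fin 4) (Fin 4) F) *ᵥ x ∈ D j) →
        (D i).map (Matrix.toLin' (g : Matrix (Fin 4) (Fin 4) F)) = D j := by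
    intro g i j h
    refine Submodule.eq_of_le_of_finrank_le (fun x hx => ?_) ?_
    · obtain ⟨y, hy, rfl⟩ := Submodule.mem_map.1 hx
      rw [Matrix.toLin'_apply]
      exact h y hy
    · refine ((hD.finrank_eq j).trans (hD.finrank_eq i).symm).le.trans
        (Submodule.equivMapOfInjective _ (fun a b hab => ?_) (D i)).finrank_eq.le
      have h1 := congrArg (fun v => ((g⁻¹ : Matrix.GeneralLinearGroup (Fin 4) F) :
        Matrix (Fin 4) (Fin 4) F) *ᵥ v) hab
      simpa [Matrix.toLin'_apply] using h1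
  refine CfsgLib.Perm.Trans.Unit.pair_maximal_four (CfsgLib.Perm.Trans.Unit.isUnitary_hermForm C) P
    (hD.finrank_eq 0) (hD.finrank_eq 1) (by rw [hF]; exact Nat.pow_le_pow_left hq 2) fun g => ?_
  constructor
  · rintro ⟨σ, hσ⟩
    have hm' : ∀ i, ∀ x ∈ D i, (g : Matrix (Fin 4) (Fin 4) F) *ᵥ x ∈ D (σ i) := fun i x hx => by
      rw [← hσ i, ← Matrix.toLin'_apply]
      exact Submodule.mem_map_of_mem hx
    rcases (show σ 0 = 0 ∨ σ 0 = 1 by omega) with h0 | h0
    · have h1 : σ 1 = 1 := by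
        rcases (show σ 1 = 0 ∨ σ 1 = 1 by omega) with h | h
        · exact absurd (σ.injective (h.trans h0.symm)) (by decide)
        · exact h
      exact Or.inl ⟨fun x hx => h0 ▸ hm' 0 x hx, fun x hx => h1 ▸ hm' 1 x hx⟩
    · have h1 : σ 1 = 0 := by
        rcases (show σ 1 = 0 ∨ σ 1 = 1 by omega) with h | h
        · exact h
        · exact absurd (σ.injective (h.trans h0.symm)) (by decide)
      exact Or.inr ⟨fun x hx => h0 ▸ hm' 0 x hx, fun x hx => h1 ▸ hm' 1 x hx⟩
  · rintro (⟨hX, hY⟩ | ⟨hX, hY⟩)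
    · refine ⟨1, fun i => ?_⟩
      fin_cases i
      exacts [hmap g 0 0 hX, hmap g 1 1 hY]
    · refine ⟨Equiv.swap 0 1, fun i => ?_⟩
      fin_cases i
      · exact hmap g 0 1 hX
      · exact hmap g 1 0 hY

/-- symplectic subfield groups -/
theorem symp_subfield_maximal_su4 (hF : Fintype.card F = q ^ 2) (F₀ : Subfield F)
    (P : Matrix.GeneralLinearGroup (Fin 4) F) (ζ : F) (hcard : Fintype.card F = Nat.card F₀ ^ 2) (hζ0 : ζ ≠ 0)
    (hζ : ζ + ζ ^ q = 0) (hP : IsFormRationalStructure (hermForm 4 F q) F₀ ζ P)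
    (halt : ∀ u : Fin 4 → F, (∀ i, u i ∈ F₀) → hermForm 4 F q ((P : Matrix (Fin 4) (Fin 4) F) *ᵥ u)
      ((P : Matrix (Fin 4) (Fin 4) F) *ᵥ u) = 0) :
    IsMaximalIn (GU 4 F q ⊓ specialLinear (Fin 4) F) (subfieldSubgroup F₀ P ⊓ (GU 4 F q ⊓ specialLinear (Fin 4) F)) := by
  obtain ⟨C⟩ := CfsgLib.Perm.Trans.Unit.ctx_of_card hF
  have hU := CfsgLib.Perm.Trans.Unit.isUnitary_hermForm C (n := 4)
  have hq : Nat.card F₀ = q := Nat.pow_left_injective two_ne_zero (hcard.symm.trans hF)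
  have hmem : ∀ x : F, x ∈ F₀ → C.bar x = x := fun x hx => by
    letI : Fintype F₀ := Fintype.ofFinite F₀
    have h := FiniteField.pow_card (⟨x, hx⟩ : F₀)
    rw [← Nat.card_eq_fintype_card, hq] at h
    rw [C.bar_eq]
    exact congrArg Subtype.val h
  have hfix : ∀ x : F, x ∈ F₀ ↔ C.bar x = x := fun x => ⟨hmem x, fun hx => by
    by_contra hx0
    obtain ⟨y, hy⟩ := C.exists_not_fixed
    exact hy (CfsgLib.Perm.Trans.Subf.eq_univ_of_closed Nat.prime_two hcard (C := {z | C.bar z = z})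
      (fun a ha b hb => by simp only [Set.mem_setOf_eq] at *; rw [map_add, ha, hb])
      (fun a ha b hb => by simp only [Set.mem_setOf_eq] at *; rw [map_mul, ha, hb])
      (fun a => hmem _ a.2) (s := x) hx hx0 y)⟩
  have D : CfsgLib.Perm.Trans.Unit.SympRat C.bar (Cfsg.hermForm 4 F q) F₀ P ζ :=
    { form := hU
      ne_zero := hζ0
      bar := by rw [C.bar_eq]; exact eq_neg_of_add_eq_zero_right hζ
      fix := hfix
      rat := fun a b => hP _ _ (fun i => (a i).2) (fun i => (b i).2)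
      alt := fun a => halt _ (fun i => (a i).2)
      card := hcard }
  exact CfsgLib.Perm.Trans.Unit.symp_subfield_maximal D (by rw [Fintype.card_fin])

/-- orthogonal subfield groups -/
theorem orth_subfield_maximal_su4 (hF : Fintype.card F = q ^ 2) (hodd : Odd q) (h5 : 5 ≤ q) (F₀ : Subfield F)
    (P : Matrix.GeneralLinearGroup (Fin 4) F) (hcard : Fintype.card F = Nat.card F₀ ^ 2)
    (hP : IsFormRationalStructure (hermForm 4 F q) F₀ 1 P) :
    IsMaximalIn (GU 4 F q ⊓ specialLinear (Fin 4) F) (subfieldSubgroup F₀ P ⊓ (GU 4 F q ⊓ specialLinear (Fin 4) F)) := by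
  obtain ⟨C⟩ := CfsgLib.Perm.Trans.Unit.ctx_of_card hF
  have hU := CfsgLib.Perm.Trans.Unit.isUnitary_hermForm C (n := 4)
  have hq : Nat.card F₀ = q := Nat.pow_left_injective two_ne_zero (hcard.symm.trans hF)
  have hmem : ∀ x : F, x ∈ F₀ → C.bar x = x := fun x hx => by
    letI : Fintype F₀ := Fintype.ofFinite F₀
    have h := FiniteField.pow_card (⟨x, hx⟩ : F₀)
    rw [← Nat.card_eq_fintype_card, hq] at h
    rw [C.bar_eq]
    exact congrArg Subtype.val h
  have hfix : ∀ x : F, x ∈ F₀ ↔ C.bar x = x := fun x => ⟨hmem x, fun hx => by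
    by_contra hx0
    obtain ⟨y, hy⟩ := C.exists_not_fixed
    exact hy (CfsgLib.Perm.Trans.Subf.eq_univ_of_closed Nat.prime_two hcard (C := {z | C.bar z = z})
      (fun a ha b hb => by simp only [Set.mem_setOf_eq] at *; rw [map_add, ha, hb])
      (fun a ha b hb => by simp only [Set.mem_setOf_eq] at *; rw [map_mul, ha, hb])
      (fun a => hmem _ a.2) (s := x) hx hx0 y)⟩
  obtain ⟨θ, hθ0, hθ⟩ := CfsgLib.Perm.Trans.exists_trace_zero hU
  have hq1 : ringChar F ≠ 2 := fun h => by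
    have h1 := FiniteField.even_card_iff_char_two.1 h
    rw [hF, Nat.pow_mod, Nat.odd_iff.1 hodd] at h1
    norm_num at h1
  have D : CfsgLib.Perm.Trans.Unit.ORat.OD C.bar (Cfsg.hermForm 4 F q) F₀ P θ :=
    { form := hU
      fix := hfix
      rat := fun a b => by
        have := hP _ _ (fun i => (a i).2) (fun i => (b i).2)
        rwa [one_mul] at this
      two := Ring.two_ne_zero hq1
      ne_zero := hθ0
      bar := hθ
      big := by rw [Fintype.card_fin] }
  exact CfsgLib.Perm.Trans.Unit.ORat.orth_subfield_maximal_four D (Fintype.card_fin 4) (hq.symm ▸ h5)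

end CfsgLib.Perm.Trans.GeomSUFour
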