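import Cfsg.Agent.Lib.Perm.Trans.UnitDecomp.SixSmall
import Cfsg.Agent.Lib.Perm.Trans.UnitDecomp.Max

/-!
# Stabilisers of four orthogonal lines are maximal in unitary groups of degree four

Above a field with at least sixteen elements a non-stabilising element yields a line column; over four elements
the isotropic vectors with two or four non-zero coordinates are centres.
-/

set_option autoImplicit false
set_option linter.all false
set_option synthInstance.maxSize 4000
set_option synthInstance.maxHeartbeats 200000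

namespace CfsgLib.Perm.Trans.Unit.Dec

open scoped Matrix
open Matrix Cfsg.Geo CfsgLib.Perm.Asch CfsgLib.Perm.Trans CfsgLib.Perm.Trans.Unit

variable {ι : Type} [Fintype ι] [DecidableEq ι] {F : Type*} [Field F] [Fintype F]
variable {σ : F ≃+* F} {f : (ι → F) → (ι → F) → F} (hf : IsUnitaryForm σ f)
variable {D : Fin 4 → Submodule F (ι → F)} (hD : IsNondegenerateMDecomposition f 1 D)
include hf hD

/-- a stabilising element with two inverse eigenvalues of order above four has a coordinate eigenvector -/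
theorem coord_of_tor {u u' : ι → F} (huu : f u u = 1) (hu'u' : f u' u' = 1) (huu' : f u u' = 0) {z : Fˣ}
    (hz : z ∈ circ σ) (hz1 : (z : F) ≠ 1) (hz2 : (z : F) ^ 2 ≠ 1) (hz3 : (z : F) ^ 3 ≠ 1) (hz4 : (z : F) ^ 4 ≠ 1)
    {y : GL ι F} (hy : y ∈ decompositionStabilizer D)
    (hyx : ∀ x, (y : Matrix ι ι F) *ᵥ x =
      x + (((z : F) - 1) * f x u) • u + ((((z⁻¹ : Fˣ) : F) - 1) * f x u') • u') : Coord D u := by
  classical
  rcases plane_or_coord hf hD huu hu'u' huu' hz hz1 hz2 hz3 hy hyx with h | ⟨a, b, hab, hsupp⟩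
  · exact h
  obtain ⟨π, c, hc⟩ := stab_cols hD hf hy
  have hu'u := herm_swap_zero hf huu'
  obtain ⟨zi, hzi⟩ : ∃ zi, zi = ((z⁻¹ : Fˣ) : F) := ⟨_, rfl⟩
  rw [← hzi] at hyx
  have hzz : (z : F) * zi = 1 := by rw [hzi, Units.mul_inv]
  have hfu : ∀ x, f ((y : Matrix ι ι F) *ᵥ x) u = (z : F) * f x u ∧ f ((y : Matrix ι ι F) *ᵥ x) u' = zi * f x u' :=
    fun x => by
      constructor <;> rw [hyx, hf.add_left, hf.add_left, hf.smul_left, hf.smul_left]
      · rw [huu, hu'u]; ring
      · rw [hu'u', huu']; ring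
  have hu'0 : u' ≠ 0 := fun h => by rw [h, herm_zero_left hf] at hu'u'; exact zero_ne_one hu'u'
  -- a coordinate of `u` fixed by `y`
  have key : ∀ a b : Fin 4, a ≠ b → (∀ i, i ≠ a → i ≠ b → f u (bv hf hD i) = 0 ∧ f u' (bv hf hD i) = 0) →
      f ((y : Matrix ι ι F) *ᵥ bv hf hD a) (bv hf hD a) ≠ 0 → Coord D u := by
    intro a b hab hsupp hd
    by_cases ha : f (bv hf hD a) u = 0
    · refine coord_of hf hD (m := b) fun i hib => ?_
      rcases eq_or_ne i a with rfl | hia
      · exact herm_swap_zero hf ha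
      · exact (hsupp i hia hib).1
    have hπ : π a = a := by
      by_contra h
      rw [hc, hf.smul_left, bv_orth hf hD h, mul_zero] at hd
      exact hd rfl
    obtain ⟨h1, h2⟩ := hfu (bv hf hD a)
    rw [hc, hπ, hf.smul_left] at h1 h2
    have hcz : c a = z := mul_right_cancel₀ ha h1
    have h0 : f (bv hf hD a) u' = 0 := by
      rw [hcz] at h2
      have h3 : ((z : F) ^ 2 - 1) * f (bv hf hD a) u' = 0 := by
        linear_combination (z : F) * h2 + f (bv hf hD a) u' * hzz
      exact (mul_eq_zero.1 h3).resolve_left (sub_ne_zero.2 hz2)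
    have h0' := herm_swap_zero hf h0
    have hb0 : f u' (bv hf hD b) ≠ 0 := by
      obtain ⟨i, hi⟩ := exists_coord hf hD hu'0
      rcases eq_or_ne i b with rfl | hib
      · exact hi
      rcases eq_or_ne i a with rfl | hia
      · exact absurd h0' hi
      · exact absurd (hsupp i hia hib).2 hi
    refine coord_of hf hD (m := a) fun i hia => ?_
    rcases eq_or_ne i b with rfl | hib
    · have h := form_line hf hD u u'
      rw [huu', Finset.sum_eq_single i (fun j _ hj => ?_) (by simp)] at h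
      · exact (mul_eq_zero.1 h.symm).resolve_right (by simpa using hb0)
      · rcases eq_or_ne j a with rfl | hja
        · rw [h0', map_zero, mul_zero]
        · rw [(hsupp j hja hj).2, map_zero, mul_zero]
    · exact (hsupp i hia hib).1
  by_cases hA : f ((y : Matrix ι ι F) *ᵥ bv hf hD a) (bv hf hD a) ≠ 0
  · exact key a b hab hsupp hA
  by_cases hB : f ((y : Matrix ι ι F) *ᵥ bv hf hD b) (bv hf hD b) ≠ 0
  · exact key b a hab.symm (fun i h1 h2 => hsupp i h2 h1) hB
  rw [not_not] at hA hB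
  exfalso
  have hnorm : ∀ w, (∀ i, i ≠ a → i ≠ b → f w (bv hf hD i) = 0) → f w w = 1 →
      f (bv hf hD a) w * f w (bv hf hD a) + f (bv hf hD b) w * f w (bv hf hD b) = 1 := by
    intro w hw hww
    rw [form_line hf hD w w, Finset.sum_eq_add a b hab (fun j _ hj => by rw [hw j hj.1 hj.2, zero_mul]) (by simp)
      (by simp), ← hf.herm, ← hf.herm] at hww
    linear_combination hww
  have e1 := hnorm u (fun i h1 h2 => (hsupp i h1 h2).1) huu
  have e2 := hnorm u' (fun i h1 h2 => (hsupp i h1 h2).2) hu'u'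
  rw [hyx, hf.add_left, hf.add_left, hf.smul_left, hf.smul_left, bv_norm hf hD] at hA hB
  have hs : (z : F) + zi = 0 := by linear_combination hA + hB - ((z : F) - 1) * e1 - (zi - 1) * e2
  refine hz4 ?_
  have h2 : (z : F) ^ 2 = -1 := by linear_combination (z : F) * hs - hzz
  linear_combination ((z : F) ^ 2 - 1) * h2

variable {M : Subgroup (GL ι F)} (hM : M ≤ isoU f) (hH : decompositionStabilizer D ⊓ (isoU f ⊓ specialLinear ι F) ≤ M)
include hM hH

/-- two zeros in a column give a line column -/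
theorem lineCol_four_two {z : Fˣ} (hz : z ∈ circ σ) (hz1 : (z : F) ≠ 1) (hz2 : (z : F) ^ 2 ≠ 1)
    (hz3 : (z : F) ^ 3 ≠ 1) (hz4 : (z : F) ^ 4 ≠ 1) {g : GL ι F} (hg : g ∈ M)
    (hgs : g ∉ decompositionStabilizer D) {l p q : Fin 4} (hpq : p ≠ q)
    (hp : f ((g : Matrix ι ι F) *ᵥ bv hf hD l) (bv hf hD p) = 0)
    (hq : f ((g : Matrix ι ι F) *ᵥ bv hf hD l) (bv hf hD q) = 0) : HasLineCol hf hD M := by
  obtain ⟨r, hr, hrk, hrd, hrx⟩ := exists_tor_pair hf hD hpq hz
  have hrM : r ∈ M := mem_of_keeps hf hD hH hr hrk hrd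
  obtain ⟨y, hy⟩ : ∃ y, y = g⁻¹ * r * g := ⟨_, rfl⟩
  have hyM : y ∈ M := hy ▸ M.mul_mem (M.mul_mem (M.inv_mem hg) hrM) hg
  have hgi : g⁻¹ ∈ isoU f := (isoU f).inv_mem (hM hg)
  have hfg : ∀ x w, f ((g : Matrix ι ι F) *ᵥ x) w = f x (((g⁻¹ : GL ι F) : Matrix ι ι F) *ᵥ w) := fun x w =>
    adjoint_col hf hD hM hg x w
  have hyx : ∀ x, (y : Matrix ι ι F) *ᵥ x = x +
      (((z : F) - 1) * f x (((g⁻¹ : GL ι F) : Matrix ι ι F) *ᵥ bv hf hD p)) •
        (((g⁻¹ : GL ι F) : Matrix ι ι F) *ᵥ bv hf hD p) +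
      ((((z⁻¹ : Fˣ) : F) - 1) * f x (((g⁻¹ : GL ι F) : Matrix ι ι F) *ᵥ bv hf hD q)) •
        (((g⁻¹ : GL ι F) : Matrix ι ι F) *ᵥ bv hf hD q) := fun x => by
    rw [hy, gl_mul_mulVec, gl_mul_mulVec, hrx, mulVec_add, mulVec_add, mulVec_smul, mulVec_smul, gl_inv_mulVec,
      hfg, hfg]
  have hyl : (y : Matrix ι ι F) *ᵥ bv hf hD l = bv hf hD l := by
    rw [hyx, ← hfg, ← hfg, hp, hq, mul_zero, mul_zero, zero_smul, zero_smul, add_zero, add_zero]
  by_cases hys : y ∈ decompositionStabilizer D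
  · exact lineCol_of_coord hf hD hM hH hg hgs (coord_of_tor hf hD (by rw [mem_isoU.1 hgi, bv_norm hf hD])
      (by rw [mem_isoU.1 hgi, bv_norm hf hD]) (by rw [mem_isoU.1 hgi, bv_orth hf hD hpq]) hz hz1 hz2 hz3 hz4 hys hyx)
  · exact ⟨y, hyM, hys, l, l, by rw [hyl]; exact bv_mem hf hD l⟩

/-- one zero in a column gives a line column -/
theorem lineCol_four_zero {u : Fˣ} (hu : u ∈ circ σ) (hu1 : (u : F) ≠ 1) (hu2 : (u : F) ^ 2 ≠ 1)
    (hu3 : (u : F) ^ 3 ≠ 1) (hu4 : (u : F) ^ 4 ≠ 1) {g : GL ι F} (hg : g ∈ M)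
    (hgs : g ∉ decompositionStabilizer D) {l p : Fin 4}
    (hp : f ((g : Matrix ι ι F) *ᵥ bv hf hD l) (bv hf hD p) = 0) : HasLineCol hf hD M := by
  classical
  obtain ⟨z, hz⟩ : ∃ z, z = (g : Matrix ι ι F) *ᵥ bv hf hD l := ⟨_, rfl⟩
  rw [← hz] at hp
  have hgi : g⁻¹ ∈ isoU f := (isoU f).inv_mem (hM hg)
  obtain ⟨c, hc⟩ : ∃ c, c = ((g⁻¹ : GL ι F) : Matrix ι ι F) *ᵥ bv hf hD p := ⟨_, rfl⟩
  have hcc : f c c = 1 := by rw [hc, mem_isoU.1 hgi, bv_norm hf hD]
  have hfc : ∀ x, f ((g : Matrix ι ι F) *ᵥ x) (bv hf hD p) = f x c := fun x => by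
    rw [hc, adjoint_col hf hD hM hg]
  obtain ⟨v, hv⟩ : ∃ v, v = (u ^ 4)⁻¹ := ⟨_, rfl⟩
  have hvc : v ∈ circ σ := hv ▸ (circ σ).inv_mem ((circ σ).pow_mem hu 4)
  have hv1 : (v : F) ≠ 1 := fun h => hu4 (by
    have : v = 1 := Units.ext (by simpa using h)
    rw [hv, inv_eq_one] at this
    simpa using congrArg Units.val this)
  let e : Fin 4 → Fˣ := Function.update (fun _ => u) p (u * v)
  have he : ∀ i, e i ∈ circ σ := fun i => by
    simp only [e, Function.update_apply]
    split_ifs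
    · exact (circ σ).mul_mem hu hvc
    · exact hu
  obtain ⟨w, hw, hwk, hwd, hwb, hwc⟩ := exists_tor hf hD e he
  have hwM : w ∈ M := mem_of_keeps hf hD hH hw hwk (by
    rw [hwd, ← Units.coe_prod, Finset.prod_update_of_mem (Finset.mem_univ p), Finset.prod_const,
      Finset.card_sdiff, Finset.inter_univ, Finset.card_singleton, Finset.card_univ, Fintype.card_fin, hv,
      show u * (u ^ 4)⁻¹ * u ^ (4 - 1) = (u ^ 4)⁻¹ * (u ^ (4 - 1) * u) by ac_rfl, ← pow_succ,
      Nat.sub_add_cancel (by omega), inv_mul_cancel, Units.val_one])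
  have hwx : ∀ x, (w : Matrix ι ι F) *ᵥ x = (u : F) • (x + (((v : F) - 1) * f x (bv hf hD p)) • bv hf hD p) :=
    fun x => ext_line hf hD fun i => by
      rw [hwc, hf.smul_left, hf.add_left, hf.smul_left]
      rcases eq_or_ne i p with rfl | hi
      · simp only [e, Function.update_self, bv_norm hf hD, Units.val_mul]; ring
      · simp only [e, Function.update_of_ne hi, bv_orth hf hD hi.symm]; ring
  by_cases hns : g⁻¹ * w * g ∈ decompositionStabilizer D
  swap
  · refine ⟨_, M.mul_mem (M.mul_mem (M.inv_mem hg) hwM) hg, hns, l, l, ?_⟩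
    rw [gl_mul_mulVec, ← hz, gl_mul_mulVec, hwx, hp, mul_zero, zero_smul, add_zero, mulVec_smul, hz, gl_inv_mulVec]
    exact (D l).smul_mem _ (bv_mem hf hD l)
  obtain ⟨π, d, hd⟩ := stab_cols hD hf hns
  obtain ⟨a, ha⟩ : ∃ a, f (bv hf hD a) c ≠ 0 := by
    obtain ⟨a, ha⟩ := exists_coord hf hD (x := c) (fun h => by rw [h, herm_zero_left hf] at hcc; exact zero_ne_one hcc)
    exact ⟨a, fun h => ha (herm_swap_zero hf h)⟩
  have hoff : ∀ i, i ≠ a → i ≠ π a → f c (bv hf hD i) = 0 := fun i hia hiπ => by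
    have h := congrArg (fun x => f x (bv hf hD i)) (hd a)
    simp only [gl_mul_mulVec] at h
    rw [hwx, mulVec_smul, mulVec_add, mulVec_smul, gl_inv_mulVec, ← hc, hfc, hf.smul_left, hf.add_left,
      hf.smul_left, hf.smul_left, bv_orth hf hD (Ne.symm hia), bv_orth hf hD (Ne.symm hiπ), mul_zero, zero_add,
      mul_eq_zero, mul_eq_zero, mul_eq_zero] at h
    rcases h with h | (h | h) | h
    · exact absurd h u.ne_zero
    · exact absurd h (sub_ne_zero.2 hv1)
    · exact absurd h ha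
    · exact h
  obtain ⟨r, -, hr⟩ := Finset.exists_mem_notMem_of_card_lt_card (s := {a, π a}) (t := (Finset.univ : Finset (Fin 4)))
    (lt_of_le_of_lt Finset.card_le_two (by simp))
  obtain ⟨s, -, hs⟩ := Finset.exists_mem_notMem_of_card_lt_card (s := {a, π a, r})
    (t := (Finset.univ : Finset (Fin 4))) (lt_of_le_of_lt Finset.card_le_three (by simp))
  simp only [Finset.mem_insert, Finset.mem_singleton, not_or] at hr hs
  exact lineCol_four_two hf hD hM hH hu hu1 hu2 hu3 hu4 (M.inv_mem hg)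
    (fun h' => hgs (inv_inv g ▸ (decompositionStabilizer D).inv_mem h')) (l := p) (Ne.symm hs.2.2)
    (hc ▸ hoff r hr.1 hr.2) (hc ▸ hoff s hs.1 hs.2.1)

/-- over the field with 49 elements some entry vanishes -/
theorem false_seven {g : GL ι F} (hg : g ∈ M) (hgs : g ∉ decompositionStabilizer D) (hnz : AllEntries hf hD M)
    (hS : Nat.card {x : F // σ x = x} = 7) (hF : Fintype.card F = 7 ^ 2) {u : Fˣ} (hu : u ∈ circ σ)
    (huo : orderOf u = 8) : False := by
  classical
  obtain ⟨hchar, hcast⟩ := fixed_eq_cast hf (by norm_num) hF hS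
  have h7 : (7 : F) = 0 := by simpa using CharP.cast_eq_zero F 7
  have hu4 : (u : F) ^ 4 = -1 := by
    have h8 : (u : F) ^ 8 = 1 := by rw [← Units.val_pow_eq_pow_val, ← huo, pow_orderOf_eq_one, Units.val_one]
    have : ((u : F) ^ 4 - 1) * ((u : F) ^ 4 + 1) = 0 := by linear_combination h8
    refine eq_neg_of_add_eq_zero_left ((mul_eq_zero.1 this).resolve_left (sub_ne_zero.2 fun h => ?_))
    have := Nat.le_of_dvd (by norm_num) (orderOf_dvd_of_pow_eq_one (x := u) (n := 4) (Units.ext (by simpa using h)))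
    omega
  have hu' : (u : F) * σ u = 1 := hu
  have hm1 : (-1 : Fˣ) ∈ circ σ := mem_circ.2 (by simp)
  -- a column gives another element
  have hstep : ∀ x ∈ M, x ∉ decompositionStabilizer D → ∀ k, ∃ y ∈ M, y ∉ decompositionStabilizer D ∧
      (∀ l, rnorm hf hD y l l = (1 - 2 * rnorm hf hD x l k) ^ 2) ∧
      ∀ l m, m ≠ l → rnorm hf hD y m l = 4 * rnorm hf hD x l k * rnorm hf hD x m k := by
    intro x hx hxs k
    obtain ⟨w, hw, hwk, hwd, -, hwc⟩ := exists_tor hf hD (Function.update (fun _ => u) k (u * (-1))) fun i => by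
      rw [Function.update_apply]
      split_ifs
      · exact (circ σ).mul_mem hu hm1
      · exact hu
    have hwM : w ∈ M := mem_of_keeps hf hD hH hw hwk (by
      rw [hwd, ← Finset.mul_prod_erase Finset.univ _ (Finset.mem_univ k), Function.update_self,
        Finset.prod_congr rfl (g := fun _ => (u : F)) (fun i hi => by
          rw [Function.update_of_ne (Finset.ne_of_mem_erase hi)]),
        Finset.prod_const, Finset.card_erase_of_mem (Finset.mem_univ k), Finset.card_univ, Fintype.card_fin,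
        Units.val_mul, Units.val_neg, Units.val_one]
      linear_combination -hu4)
    have hwx : ∀ v, (w : Matrix ι ι F) *ᵥ v = (u : F) • (v + (-2 * f v (bv hf hD k)) • bv hf hD k) :=
      fun v => ext_line hf hD fun i => by
        rw [hwc, hf.smul_left, hf.add_left, hf.smul_left]
        rcases eq_or_ne i k with rfl | hi
        · rw [Function.update_self, bv_norm hf hD, Units.val_mul, Units.val_neg, Units.val_one]; ring
        · rw [Function.update_of_ne hi, bv_orth hf hD hi.symm]; ring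
    obtain ⟨z, hz⟩ : ∃ z, z = (x : Matrix ι ι F) *ᵥ bv hf hD k := ⟨_, rfl⟩
    have hyv : ∀ v, ((x * w * x⁻¹ : GL ι F) : Matrix ι ι F) *ᵥ v = (u : F) • (v + (-2 * f v z) • z) := fun v => by
      rw [gl_mul_mulVec, gl_mul_mulVec, hwx, mulVec_smul, mulVec_add, mulVec_smul, gl_mulVec_inv,
        adjoint_col hf hD hM (M.inv_mem hx), inv_inv, ← hz]
    have hσ : σ (u : F) * u = 1 := by rw [mul_comm, hu']
    refine ⟨_, M.mul_mem (M.mul_mem hx hwM) (M.inv_mem hx), fun hys => ?_, fun l => ?_, fun l m hml => ?_⟩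
    · obtain ⟨π, c, hc⟩ := stab_cols hD hf hys
      obtain ⟨m, -, hm⟩ := Finset.exists_mem_notMem_of_card_lt_card (s := {k, π k})
        (t := (Finset.univ : Finset (Fin 4))) (lt_of_le_of_lt Finset.card_le_two (by simp))
      simp only [Finset.mem_insert, Finset.mem_singleton, not_or] at hm
      have h := congrArg (fun v => f v (bv hf hD m)) (hc k)
      simp only [hyv, hf.smul_left, hf.add_left, bv_orth hf hD (Ne.symm hm.1), bv_orth hf hD (Ne.symm hm.2),
        mul_zero, zero_add] at h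
      have h2 : (-2 : F) ≠ 0 := fun e => one_ne_zero (α := F) (by linear_combination h7 + 3 * e)
      rcases mul_eq_zero.1 h with h | h
      · exact u.ne_zero h
      rcases mul_eq_zero.1 h with h | h
      · rcases mul_eq_zero.1 h with h | h
        · exact h2 h
        · exact hnz x hx hxs k k (hz ▸ herm_swap_zero hf h)
      · exact hnz x hx hxs k m (hz ▸ h)
    · simp only [rnorm, hyv, hf.smul_left, hf.add_left, bv_norm hf hD, map_mul, map_add, map_neg, map_one,
        map_ofNat, ← hz]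
      rw [← hf.herm (bv hf hD l) z, hf.herm (bv hf hD l) z, hf.involutive]
      linear_combination (1 - 2 * (f z (bv hf hD l) * σ (f z (bv hf hD l)))) ^ 2 * hu'
    · simp only [rnorm, hyv, hf.smul_left, hf.add_left, bv_orth hf hD hml.symm, map_mul, map_add, map_neg, map_zero,
        map_ofNat, zero_add, ← hz]
      rw [hf.herm (bv hf hD l) z, hf.involutive]
      linear_combination
        4 * (f z (bv hf hD l) * σ (f z (bv hf hD l))) * (f z (bv hf hD m) * σ (f z (bv hf hD m))) * hu'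
  have h4 : ∀ x ∈ M, x ∉ decompositionStabilizer D → ∀ m k, rnorm hf hD x m k ≠ 4 := by
    intro x hx hxs m k h
    obtain ⟨y, hy, hys, hd, -⟩ := hstep x hx hxs k
    refine rnorm_ne_zero hf hD hM hy hys hnz m m ?_
    rw [hd, h]
    linear_combination 7 * h7
  have hval : ∀ x ∈ M, x ∉ decompositionStabilizer D → ∀ m k, ∃ c : Fin 3,
      rnorm hf hD x m k = ((![1, 2, 6] c : ℕ) : F) := by
    intro x hx hxs m k
    obtain ⟨n, hn, hnx⟩ := hcast _ (rnorm_fix hf hD x m k)
    obtain ⟨y, hy, hys, hd, -⟩ := hstep x hx hxs k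
    interval_cases n
    · exact absurd (by simpa using hnx.symm) (rnorm_ne_zero hf hD hM hx hxs hnz m k)
    · exact ⟨0, hnx.symm⟩
    · exact ⟨1, hnx.symm⟩
    · refine absurd ?_ (h4 y hy hys m m)
      rw [hd, ← hnx]
      push_cast
      linear_combination 3 * h7
    · exact absurd (by simpa using hnx.symm) (h4 x hx hxs m k)
    · refine absurd ?_ (h4 y hy hys m m)
      rw [hd, ← hnx]
      push_cast
      linear_combination 11 * h7
    · exact ⟨2, hnx.symm⟩
  have htwo : ∀ x ∈ M, x ∉ decompositionStabilizer D → ∀ m k, rnorm hf hD x m k = 2 := by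
    intro x hx hxs m k
    choose c hc using fun i => hval x hx hxs i k
    obtain ⟨y, hy, hys, -, ho⟩ := hstep x hx hxs k
    have hpair : ∀ a b : Fin 4, a ≠ b → ∃ e : Fin 3, (4 * ![1, 2, 6] (c a) * ![1, 2, 6] (c b) : ℕ) % 7 =
        (![1, 2, 6] e : ℕ) % 7 := by
      intro a b hab
      obtain ⟨e, he⟩ := hval y hy hys b a
      refine ⟨e, (CharP.natCast_eq_natCast F 7).1 ?_⟩
      rw [← he, ho a b hab.symm, hc, hc]
      push_cast
      ring
    have hsum : (![1, 2, 6] (c 0) + ![1, 2, 6] (c 1) + ![1, 2, 6] (c 2) + ![1, 2, 6] (c 3) : ℕ) % 7 = 1 := by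
      have h : f ((x : Matrix ι ι F) *ᵥ bv hf hD k) ((x : Matrix ι ι F) *ᵥ bv hf hD k) = 1 := by
        rw [mem_isoU.1 (hM hx), bv_norm hf hD]
      rw [form_line hf hD] at h
      change ∑ i, rnorm hf hD x i k = 1 at h
      rw [Fin.sum_univ_four, hc, hc, hc, hc] at h
      simp only [← Nat.cast_add] at h
      rw [← Nat.cast_one (R := F)] at h
      exact (CharP.natCast_eq_natCast F 7).1 h
    have hall : ∀ a b d e : Fin 3, (∃ r : Fin 3, (4 * ![1, 2, 6] a * ![1, 2, 6] b : ℕ) % 7 = (![1, 2, 6] r : ℕ) % 7) →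
        (∃ r : Fin 3, (4 * ![1, 2, 6] a * ![1, 2, 6] d : ℕ) % 7 = (![1, 2, 6] r : ℕ) % 7) →
        (∃ r : Fin 3, (4 * ![1, 2, 6] a * ![1, 2, 6] e : ℕ) % 7 = (![1, 2, 6] r : ℕ) % 7) →
        (∃ r : Fin 3, (4 * ![1, 2, 6] b * ![1, 2, 6] d : ℕ) % 7 = (![1, 2, 6] r : ℕ) % 7) →
        (∃ r : Fin 3, (4 * ![1, 2, 6] b * ![1, 2, 6] e : ℕ) % 7 = (![1, 2, 6] r : ℕ) % 7) →
        (∃ r : Fin 3, (4 * ![1, 2, 6] d * ![1, 2, 6] e : ℕ) % 7 = (![1, 2, 6] r : ℕ) % 7) →
        (![1, 2, 6] a + ![1, 2, 6] b + ![1, 2, 6] d + ![1, 2, 6] e : ℕ) % 7 = 1 →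
        a = 1 ∧ b = 1 ∧ d = 1 ∧ e = 1 := by decide
    obtain ⟨e0, e1, e2, e3⟩ := hall _ _ _ _ (hpair 0 1 (by decide)) (hpair 0 2 (by decide)) (hpair 0 3 (by decide))
      (hpair 1 2 (by decide)) (hpair 1 3 (by decide)) (hpair 2 3 (by decide)) hsum
    have : c m = 1 := by fin_cases m <;> assumption
    rw [hc, this]
    simp
  -- a torus element
  obtain ⟨w, hw, hwt⟩ : ∃ w ∈ circ σ, (w : F) + σ (w : F) = 4 := by
    have hσ4 : σ (u : F) ^ 4 = -1 := by rw [← map_pow, hu4, map_neg, map_one]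
    have hsq : ((u : F) + σ u) ^ 2 = 4 ^ 2 := by
      have h0 : (u : F) ^ 2 * (((u : F) + σ u) ^ 2 - 2) = 0 := by
        linear_combination hu4 + ((u : F) * σ u + 1 + 2 * (u : F) ^ 2) * hu'
      have := (mul_eq_zero.1 h0).resolve_left (pow_ne_zero 2 u.ne_zero)
      linear_combination this - 2 * h7
    rcases sq_eq_sq_iff_eq_or_eq_neg.1 hsq with h | h
    · exact ⟨u, hu, h⟩
    · exact ⟨(-1) * u, (circ σ).mul_mem hm1 hu, by
        rw [Units.val_mul, Units.val_neg, Units.val_one, map_mul, map_neg, map_one]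
        linear_combination -h⟩
  obtain ⟨r, hr, hrk, hrd, hrx⟩ := exists_tor_pair hf hD (show (0 : Fin 4) ≠ 1 by decide) hw
  have hrM : r ∈ M := mem_of_keeps hf hD hH hr hrk hrd
  obtain ⟨y, hy⟩ : ∃ y, y = g * r * g⁻¹ := ⟨_, rfl⟩
  have hyM : y ∈ M := hy ▸ M.mul_mem (M.mul_mem hg hrM) (M.inv_mem hg)
  have he : f ((y : Matrix ι ι F) *ᵥ bv hf hD 0) (bv hf hD 0) = 5 := by
    rw [hy, gl_mul_mulVec, gl_mul_mulVec, hrx, mulVec_add, mulVec_add, mulVec_smul, mulVec_smul, gl_mulVec_inv,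
      adjoint_col hf hD hM (M.inv_mem hg), adjoint_col hf hD hM (M.inv_mem hg), inv_inv, hf.add_left, hf.add_left,
      hf.smul_left, hf.smul_left, bv_norm hf hD]
    have hN : ∀ k, f (bv hf hD 0) ((g : Matrix ι ι F) *ᵥ bv hf hD k) *
        f ((g : Matrix ι ι F) *ᵥ bv hf hD k) (bv hf hD 0) = 2 := fun k => by
      rw [← htwo g hg hgs 0 k, rnorm, hf.herm (bv hf hD 0)]
      ring
    rw [← circ_sigma hw]
    linear_combination ((w : F) - 1) * hN 0 + (σ (w : F) - 1) * hN 1 + 2 * hwt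
  by_cases hys : y ∈ decompositionStabilizer D
  · obtain ⟨π, c, hc⟩ := stab_cols hD hf hys
    have h1 := mem_isoU.1 (hM hyM) (bv hf hD 0) (bv hf hD 0)
    rw [hc] at he h1
    rcases eq_or_ne (π 0) 0 with e | e
    · rw [e, hf.smul_left, bv_norm hf hD, mul_one] at he
      rw [e, hf.smul_left, herm_smul_right hf, bv_norm hf hD, he, map_ofNat] at h1
      exact one_ne_zero (α := F) (by linear_combination 7 * h7 - 2 * h1)
    · rw [hf.smul_left, bv_orth hf hD e, mul_zero] at he
      exact one_ne_zero (α := F) (by linear_combination -2 * h7 - 3 * he)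
  · have h := htwo y hyM hys 0 0
    rw [rnorm, he, map_ofNat] at h
    exact one_ne_zero (α := F) (by linear_combination 10 * h7 - 3 * h)

/-- at least sixteen field elements: a line column -/
theorem lineCol_four (h16 : 16 ≤ Fintype.card F) {g : GL ι F} (hg : g ∈ M)
    (hgs : g ∉ decompositionStabilizer D) : HasLineCol hf hD M := by
  classical
  obtain ⟨q, hq, hF, hS, hcirc⟩ := exists_sizes hf
  have hq4 : 4 ≤ q := by nlinarith
  obtain ⟨u, hu, huo⟩ := exists_circ_generator hf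
  rw [hcirc] at huo
  have hup : ∀ i, 0 < i → i < q + 1 → (u : F) ^ i ≠ 1 := fun i h0 h1 h => by
    have := Nat.le_of_dvd h0 (orderOf_dvd_of_pow_eq_one (x := u) (n := i) (Units.ext (by simpa using h)))
    omega
  by_contra hno
  have hnz : AllEntries hf hD M := fun x hx hxs l p hp => hno (lineCol_four_zero hf hD hM hH hu
    (by simpa using hup 1 (by norm_num) (by omega)) (hup 2 (by norm_num) (by omega)) (hup 3 (by norm_num) (by omega))
    (hup 4 (by norm_num) (by omega)) hx hxs hp)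
  by_cases hbig : (u : F) ^ 8 = 1
  · have h1 : q + 1 ∣ 8 := huo ▸ orderOf_dvd_of_pow_eq_one (Units.ext (by simpa using hbig))
    have : q ≤ 7 := by have := Nat.le_of_dvd (by norm_num) h1; omega
    interval_cases q <;> norm_num at h1
    exact false_seven hf hD hM hH hg hgs hnz hS hF hu huo
  · obtain ⟨R, S, hR, hSi, hRx, hSx, hz, hX⟩ :=
      exists_refl_data hf hD hM hH le_rfl hg hgs hnz hu (0 : Fin 4) 0
    refine false_of_refl_pair hf (bv_norm hf hD 0) (by rw [mem_isoU.1 (hM hg), bv_norm hf hD]) hz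
      ((circ σ).inv_mem ((circ σ).pow_mem hu 4)) (fun h => hbig ?_) hR hSi hRx hSx hX
    rw [Units.val_inv_eq_inv_val, Units.val_pow_eq_pow_val, inv_pow, inv_eq_one, ← pow_mul] at h
    exact h

/-- four field elements: every isotropic vector is a centre -/
theorem centres_four (hsmall : Fintype.card F ≤ 4) {g : GL ι F} (hg : g ∈ M)
    (hgs : g ∉ decompositionStabilizer D) : ∀ x, f x x = 0 → x ∈ centres hf M := by
  classical
  obtain ⟨h2, -, hnorm⟩ := small_field hf hsmall
  have hpow : ∀ x : F, x ^ 4 = x := fun x => by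
    obtain ⟨q, hq, hF, -, -⟩ := exists_sizes hf
    have hq2 : q = 2 := by nlinarith
    have h4 : Fintype.card F = 4 := by rw [hF, hq2]; rfl
    rw [← h4, FiniteField.pow_card]
  intro x hxx
  have hle : (lsupp hf hD x).card ≤ 4 := (Finset.card_le_univ _).trans (by simp)
  obtain ⟨m, hm⟩ := even_supp hf hD hsmall hxx
  rcases (by omega : m = 0 ∨ m = 1 ∨ m = 2) with rfl | rfl | rfl
  · rw [show x = 0 from ext_line hf hD fun i => ?_]
    · exact centres_zero hf M
    · rw [herm_zero_left hf]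
      by_contra hi
      have := Finset.card_pos.2 ⟨i, (mem_lsupp hf hD).2 hi⟩
      omega
  · obtain ⟨i, j, hij, he⟩ := Finset.card_eq_two.1 hm
    refine pair_full hf hD hM hH (Or.inl (by omega)) (fun a b hab => pairGood_small hf hD hsmall hH hab) hij x
      (fun l hl => ?_) hxx
    rw [comp_eq_zero]
    by_contra h
    exact hl (he ▸ (mem_lsupp hf hD).2 h)
  obtain ⟨a, b, hab, w, hw, hwide⟩ := exists_wide hf hD le_rfl (hM hg) hgs (Or.inr fun l h => by
    have h' := form_card hf hD hsmall ((g : Matrix ι ι F) *ᵥ bv hf hD l)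
    rw [mem_isoU.1 (hM hg), bv_norm hf hD, h] at h'
    exact one_ne_zero (by rw [h']; exact_mod_cast h2))
  obtain ⟨z, hz⟩ : ∃ z, z = (g : Matrix ι ι F) *ᵥ bv hf hD a + (w : F) • ((g : Matrix ι ι F) *ᵥ bv hf hD b) :=
    ⟨_, rfl⟩
  have hzc : z ∈ centres hf M := by
    have := centres_conj hf hM hg (seed_centre hf hD hsmall hH hab (Units.ne_zero w))
    rwa [mulVec_add, mulVec_smul, ← hz] at this
  rw [← hz] at hwide
  have hfull : ∀ y : ι → F, (lsupp hf hD y).card = 4 → ∀ i, f y (bv hf hD i) ≠ 0 := fun y hy i => by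
    have h : lsupp hf hD y = Finset.univ := Finset.eq_univ_of_card _ (by rw [hy, Fintype.card_fin])
    exact (mem_lsupp hf hD).1 (h ▸ Finset.mem_univ i)
  have hz4 : (lsupp hf hD z).card = 4 := by
    obtain ⟨k, hk⟩ := even_supp hf hD hsmall hzc.1
    have : (lsupp hf hD z).card ≤ 4 := (Finset.card_le_univ _).trans (by simp)
    omega
  have hxn := hfull x hm
  have hzn := hfull z hz4
  obtain ⟨P, hP⟩ : ∃ P, P = ∏ i, f x (bv hf hD i) / f z (bv hf hD i) := ⟨_, rfl⟩
  have hP0 : P ≠ 0 := hP ▸ Finset.prod_ne_zero_iff.2 fun i _ => div_ne_zero (hxn i) (hzn i)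
  choose E hE hEv using fun i => exists_circ (σ := σ)
    (hnorm (f x (bv hf hD i) / f z (bv hf hD i) / P) (div_ne_zero (div_ne_zero (hxn i) (hzn i)) hP0))
  obtain ⟨r, hr, hrk, hrd, -, hrc⟩ := exists_tor hf hD E hE
  have hrM : r ∈ M := mem_of_keeps hf hD hH hr hrk (by
    rw [hrd, Finset.prod_congr rfl (fun i _ => hEv i), Finset.prod_div_distrib, ← hP, Finset.prod_const,
      Finset.card_univ, Fintype.card_fin, hpow, div_self hP0])
  have h := centres_smul hf (centres_conj hf hM hrM hzc) P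
  suffices e : P • ((r : Matrix ι ι F) *ᵥ z) = x by rwa [e] at h
  refine ext_line hf hD fun i => ?_
  rw [hf.smul_left, hrc, hEv]
  field_simp [hzn i]

omit hM hH in
/-- stabilisers of four orthogonal lines are maximal, except over nine elements -/
theorem lines_maximal_four (h9 : Fintype.card F ≠ 9) :
    IsMaximalIn (isoU f ⊓ specialLinear ι F) (decompositionStabilizer D ⊓ (isoU f ⊓ specialLinear ι F)) := by
  have hn : Fintype.card ι = 4 := (card_lines hD hf).symm
  refine isMaximalIn_of_centres hf (by omega) (not_le_stab hf hD (by omega)) fun M hHM hM hne => ?_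
  have hMiso : M ≤ isoU f := hM.trans inf_le_left
  obtain ⟨g, hg, hgs⟩ := SetLike.not_le_iff_exists.1 hne
  rcases Nat.lt_or_ge 4 (Fintype.card F) with h4 | h4
  swap
  · exact centres_four hf hD hMiso hHM h4 hg hgs
  have h16 : 16 ≤ Fintype.card F := by
    obtain ⟨q, hq, hF, -, -⟩ := exists_sizes hf
    rcases (by omega : q = 2 ∨ q = 3 ∨ 4 ≤ q) with rfl | rfl | h
    · omega
    · omega
    · rw [hF]; nlinarith
  obtain ⟨i, j, hij, hgood⟩ :=
    exists_pairGood_of_lineCol hf hD hMiso hHM (by norm_num) h4 (lineCol_four hf hD hMiso hHM h16 hg hgs)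
  exact all_centres hf hD hMiso hHM (by norm_num) (Or.inl (by norm_num)) (pairGood_all hf hD hMiso hHM hij hgood)
    (fun _ h => absurd h (by omega))

end CfsgLib.Perm.Trans.Unit.Dec
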