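import Cfsg.Agent.Lib.Perm.Trans.UnitSubfOrthMax

/-!
# Orthogonal structures over the fixed field in four dimensional unitary spaces: reflections, planes, lines
-/

set_option autoImplicit false
set_option linter.all false

namespace CfsgLib.Perm.Trans.Unit.ORat

open scoped Matrix
open Matrix Cfsg.Geo CfsgLib.Perm.Asch CfsgLib.Perm.Trans
open CfsgLib.Perm.Trans.Subf (em_add em_neg em_sub em_smul em_zero em_injective em_ne_zero)

variable {ι : Type} [Fintype ι] [DecidableEq ι] {F : Type*} [Field F] [Fintype F]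
variable {σ : F ≃+* F} {f : (ι → F) → (ι → F) → F} {F₀ : Subfield F} {P : GL ι F} {θ : F}

local notation "em'" => CfsgLib.Perm.Trans.Subf.em

variable (D : OD σ f F₀ P θ) {M : Subgroup (GL ι F)}
include D

/-- the square of the trace zero element -/
def dl : F₀ := ⟨θ * θ, (D.fix _).2 (by rw [map_mul, D.bar, neg_mul_neg])⟩

theorem dl_coe : ((dl D : F₀) : F) = θ * θ := rfl

theorem dl_ne_zero : dl D ≠ 0 := fun h => mul_ne_zero D.ne_zero D.ne_zero (by rw [← dl_coe D, h]; rfl)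

theorem dl_not_sq (t : F₀) : dl D ≠ t * t := fun h => by
  have h1 : (θ - (t : F)) * (θ + (t : F)) = 0 := by
    have := congrArg Subtype.val h
    push_cast [dl_coe] at this
    linear_combination this
  have hmem : θ ∈ F₀ := (mul_eq_zero.1 h1).elim (fun h => sub_eq_zero.1 h ▸ t.2)
    (fun h => eq_neg_of_add_eq_zero_left h ▸ F₀.neg_mem t.2)
  have h3 := (D.fix _).1 hmem
  rw [D.bar] at h3
  exact mul_ne_zero D.two D.ne_zero (by linear_combination -h3)

theorem f_iso_parts {p r : ι → F₀} (h : f (em' F₀ P p + θ • em' F₀ P r) (em' F₀ P p + θ • em' F₀ P r) = 0) :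
    rb D p p = dl D * rb D r r := by
  rw [f_mixed D, (rb_symmetric D).symm r p] at h
  refine Subtype.ext ?_
  push_cast [dl_coe]
  linear_combination h

theorem disc_of {p r : ι → F₀} (h : rb D p p = dl D * rb D r r) (hne : ¬(rb D r r = 0 ∧ rb D p r = 0)) :
    rb D p p * rb D r r - rb D p r * rb D p r ≠ 0 := by
  intro h0
  rw [h] at h0
  rcases eq_or_ne (rb D r r) 0 with hr | hr
  · exact hne ⟨hr, mul_self_eq_zero.1 (by linear_combination -h0 + dl D * rb D r r * hr)⟩
  · refine dl_not_sq D (rb D p r / rb D r r) ?_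
    field_simp
    linear_combination h0

theorem parts_perp {X : ι → F} {d : ι → F₀} (h : f X (em' F₀ P d) = 0) :
    rb D (rp D X) d = 0 ∧ rb D (ip D X) d = 0 := by
  rw [decomp D X, D.form.add_left, D.form.smul_left, ← rb_coe D, ← rb_coe D] at h
  exact coe_split_unique D (x := rb D (rp D X) d) (y := rb D (ip D X) d) (x' := 0) (y' := 0)
    (by push_cast; linear_combination h)

theorem perp_parts {p r d : ι → F₀} (hp : rb D p d = 0) (hr : rb D r d = 0) :
    f (em' F₀ P p + θ • em' F₀ P r) (em' F₀ P d) = 0 := by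
  rw [D.form.add_left, D.form.smul_left, ← rb_coe D, ← rb_coe D, hp, hr]
  push_cast
  ring

/-! ### reflections -/

/-- the reflection of the rational space -/
def rf (d x : ι → F₀) : ι → F₀ := x - (2 * rb D x d / rb D d d) • d

theorem rf_rb (d x y : ι → F₀) : rb D (rf D d x) y = rb D x y - 2 * rb D x d / rb D d d * rb D d y := by
  rw [rf, Orth.sym_sub_left (rb_symmetric D), (rb_symmetric D).bilinear.smul_left]

theorem rf_fix {d x : ι → F₀} (h : rb D x d = 0) : rf D d x = x := by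
  rw [rf, h, mul_zero, zero_div, zero_smul, sub_zero]

theorem rf_iso {d : ι → F₀} (hd : rb D d d ≠ 0) (x y : ι → F₀) : rb D (rf D d x) (rf D d y) = rb D x y := by
  have hs := rb_symmetric D
  rw [rf_rb, hs.symm x (rf D d y), rf_rb, hs.symm d (rf D d y), rf_rb, hs.symm y x, hs.symm d x]
  field_simp
  ring

theorem rf_add (d x y : ι → F₀) : rf D d (x + y) = rf D d x + rf D d y := by
  rw [rf, rf, rf, (rb_symmetric D).bilinear.add_left, mul_add, add_div, add_smul]
  abel

theorem rf_smul (d x : ι → F₀) (c : F₀) : rf D d (c • x) = c • rf D d x := by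
  rw [rf, rf, (rb_symmetric D).bilinear.smul_left, smul_sub, smul_smul]
  congr 2
  ring

theorem exists_two_refl (hHM : subfieldSubgroup F₀ P ⊓ (isoU f ⊓ specialLinear ι F) ≤ M) {d1 d2 : ι → F₀}
    (h1 : rb D d1 d1 ≠ 0) (h2 : rb D d2 d2 ≠ 0) :
    ∃ h ∈ M, ∀ x, (h : Matrix ι ι F) *ᵥ em' F₀ P x = em' F₀ P (rf D d1 (rf D d2 x)) := by
  have hz : (-1 : F) * σ (-1) = 1 := by rw [map_neg, map_one]; ring
  have hc : ∀ {d : ι → F₀}, rb D d d ≠ 0 → ∃ g ∈ isoU f, (g : Matrix ι ι F).det = -1 ∧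
      ∀ x, (g : Matrix ι ι F) *ᵥ em' F₀ P x = em' F₀ P (rf D d x) := by
    intro d hd
    have hd' : f (em' F₀ P d) (em' F₀ P d) ≠ 0 := fun h => hd (Subtype.ext h)
    obtain ⟨g, hg, hdet, hgx⟩ := exists_qref D.form hd' hz
    refine ⟨g, hg, hdet, fun x => ?_⟩
    rw [hgx, rf, em_sub, em_smul]
    conv_rhs => rw [sub_eq_add_neg, ← neg_smul]
    congr 2
    push_cast [rb_coe, show ((2 : F₀) : F) = 2 from rfl]
    ring
  obtain ⟨g1, hg1, hdet1, hx1⟩ := hc h1
  obtain ⟨g2, hg2, hdet2, hx2⟩ := hc h2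
  have hx : ∀ x, ((g1 * g2 : GL ι F) : Matrix ι ι F) *ᵥ em' F₀ P x = em' F₀ P (rf D d1 (rf D d2 x)) := fun x => by
    rw [gl_mul_mulVec, hx2, hx1]
  refine ⟨g1 * g2, hHM ⟨?_, mul_mem hg1 hg2, Units.ext ?_⟩, hx⟩
  · exact Subf.mem_subfieldSubgroup_of_image F₀ P one_ne_zero fun i =>
      ⟨rf D d1 (rf D d2 (Pi.single i 1)), by rw [one_smul, hx]⟩
  · show ((g1 * g2 : GL ι F) : Matrix ι ι F).det = 1
    rw [Units.val_mul, det_mul, hdet1, hdet2]
    ring

theorem act_parts {g : GL ι F} {L : (ι → F₀) → (ι → F₀)}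
    (hg : ∀ x, (g : Matrix ι ι F) *ᵥ em' F₀ P x = em' F₀ P (L x)) (a b : ι → F₀) :
    (g : Matrix ι ι F) *ᵥ (em' F₀ P a + θ • em' F₀ P b) = em' F₀ P (L a) + θ • em' F₀ P (L b) := by
  rw [mulVec_add, mulVec_smul, hg, hg]

theorem two_refl_fix {g : GL ι F} {d1 d2 : ι → F₀}
    (hg : ∀ x, (g : Matrix ι ι F) *ᵥ em' F₀ P x = em' F₀ P (rf D d1 (rf D d2 x))) {X : ι → F}
    (h1 : f X (em' F₀ P d1) = 0) (h2 : f X (em' F₀ P d2) = 0) : (g : Matrix ι ι F) *ᵥ X = X := by
  obtain ⟨a1, b1⟩ := parts_perp D h1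
  obtain ⟨a2, b2⟩ := parts_perp D h2
  conv_lhs => rw [decomp D X]
  rw [act_parts D (L := fun x => rf D d1 (rf D d2 x)) hg, rf_fix D a2, rf_fix D a1, rf_fix D b2, rf_fix D b1]
  exact (decomp D X).symm

/-! ### singular vectors and planes -/

theorem exists_sing_partner {u : ι → F₀} (hu0 : u ≠ 0) (hu : rb D u u = 0) :
    ∃ v, rb D v v = 0 ∧ rb D u v = 1 := by
  have hs := rb_symmetric D
  have h2 := two' D
  obtain ⟨y, hy⟩ := (hs.nondegenerate u hu0).2
  obtain ⟨y', hy'⟩ : ∃ y', y' = (rb D u y)⁻¹ • y := ⟨_, rfl⟩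
  have huy : rb D u y' = 1 := by rw [hy', hs.bilinear.smul_right, inv_mul_cancel₀ hy]
  refine ⟨y' - (rb D y' y' / 2) • u, ?_, ?_⟩
  · rw [Orth.sym_sub_left hs, Orth.sym_sub_right hs, Orth.sym_sub_right hs, hs.bilinear.smul_left,
      hs.bilinear.smul_right, hs.bilinear.smul_left, hs.bilinear.smul_right, hu, hs.symm y' u, huy]
    field_simp
    ring
  · rw [Orth.sym_sub_right hs, hs.bilinear.smul_right, hu, huy, mul_zero, sub_zero]

theorem exists_singular : ∃ u : ι → F₀, u ≠ 0 ∧ rb D u u = 0 := by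
  haveI : Fintype F₀ := Fintype.ofFinite _
  have hs := rb_symmetric D
  have := D.big
  obtain ⟨z, -, hz0, hz⟩ := Orth.exists_zero_one (d := rb D) hs.bilinear.add_left hs.bilinear.smul_left hs.symm
    (W := (⊤ : Submodule F₀ (ι → F₀))) (by rw [finrank_top, Module.finrank_fintype_fun_eq_card]; omega)
  exact ⟨z, hz0, hz⟩

theorem plane_proj {p r : ι → F₀} (hd : rb D p p * rb D r r - rb D p r * rb D p r ≠ 0) (x : ι → F₀) :
    ∃ c1 c2 : F₀, rb D (x - c1 • p - c2 • r) p = 0 ∧ rb D (x - c1 • p - c2 • r) r = 0 := by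
  have hs := rb_symmetric D
  obtain ⟨di, hdi⟩ : ∃ di, di = (rb D p p * rb D r r - rb D p r * rb D p r)⁻¹ := ⟨_, rfl⟩
  have hdd : (rb D p p * rb D r r - rb D p r * rb D p r) * di = 1 := hdi ▸ mul_inv_cancel₀ hd
  refine ⟨(rb D x p * rb D r r - rb D x r * rb D p r) * di, (rb D x r * rb D p p - rb D x p * rb D p r) * di, ?_, ?_⟩
  · simp only [Orth.sym_sub_left hs, hs.bilinear.smul_left, hs.symm r p]
    linear_combination -(rb D x p) * hdd
  · simp only [Orth.sym_sub_left hs, hs.bilinear.smul_left]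
    linear_combination -(rb D x r) * hdd

theorem plane_indep {p r : ι → F₀} (hd : rb D p p * rb D r r - rb D p r * rb D p r ≠ 0) {c d : F₀}
    (h : c • p + d • r = 0) : c = 0 ∧ d = 0 := by
  have hs := rb_symmetric D
  have h1 : rb D (c • p + d • r) p = 0 := by rw [h, Orth.sym_zero_left hs]
  have h2 : rb D (c • p + d • r) r = 0 := by rw [h, Orth.sym_zero_left hs]
  rw [hs.bilinear.add_left, hs.bilinear.smul_left, hs.bilinear.smul_left] at h1 h2
  rw [hs.symm r p] at h1
  exact ⟨(mul_eq_zero.1 (show (rb D p p * rb D r r - rb D p r * rb D p r) * c = 0 by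
      linear_combination rb D r r * h1 - rb D p r * h2)).resolve_left hd,
    (mul_eq_zero.1 (show (rb D p p * rb D r r - rb D p r * rb D p r) * d = 0 by
      linear_combination rb D p p * h2 - rb D p r * h1)).resolve_left hd⟩

theorem finrank_pair {p r : ι → F₀} (hind : ∀ c d : F₀, c • p + d • r = 0 → c = 0 ∧ d = 0) :
    Module.finrank F₀ (Submodule.span F₀ (Set.range ![p, r])) = 2 := by
  rw [finrank_span_eq_card (LinearIndependent.pair_iff.2 hind), Fintype.card_fin]

theorem exists_perp_aniso (h4 : Fintype.card ι = 4) {p r : ι → F₀}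
    (hd : rb D p p * rb D r r - rb D p r * rb D p r ≠ 0) :
    ∃ a, rb D a p = 0 ∧ rb D a r = 0 ∧ rb D a a ≠ 0 := by
  have hs := rb_symmetric D
  by_contra hcon
  push Not at hcon
  have h1 := Orth.finrank_le_inf_ker (⊤ : Submodule F₀ (ι → F₀)) (Orth.sfl hs p)
  rw [finrank_top, Module.finrank_fintype_fun_eq_card, top_inf_eq] at h1
  have h2 := Orth.finrank_le_inf_ker (LinearMap.ker (Orth.sfl hs p)) (Orth.sfl hs r)
  obtain ⟨z, ⟨hzp, hzr⟩, hz0⟩ := Submodule.exists_mem_ne_zero_of_ne_bot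
    (p := LinearMap.ker (Orth.sfl hs p) ⊓ LinearMap.ker (Orth.sfl hs r)) (fun h => by rw [h, finrank_bot] at h2; omega)
  have hzp' : rb D z p = 0 := hzp
  have hzr' : rb D z r = 0 := hzr
  obtain ⟨x, hx⟩ := (hs.nondegenerate z hz0).2
  obtain ⟨c1, c2, e1, e2⟩ := plane_proj D hd x
  obtain ⟨y, hy⟩ : ∃ y, y = x - c1 • p - c2 • r := ⟨_, rfl⟩
  rw [← hy] at e1 e2
  have h3 := hcon (z + y) (by rw [hs.bilinear.add_left, hzp', e1, add_zero])
    (by rw [hs.bilinear.add_left, hzr', e2, add_zero])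
  rw [hs.bilinear.add_left, hs.bilinear.add_right, hs.bilinear.add_right, hcon z hzp' hzr', hcon y e1 e2,
    hs.symm y z] at h3
  have h5 : rb D z y = rb D z x := by
    rw [hy, Orth.sym_sub_right hs, Orth.sym_sub_right hs, hs.bilinear.smul_right, hs.bilinear.smul_right, hzp', hzr',
      mul_zero, mul_zero, sub_zero, sub_zero]
  rw [h5] at h3
  exact hx ((mul_eq_zero.1 (show (2 : F₀) * rb D z x = 0 by linear_combination h3)).resolve_left (two' D))

theorem exists_frame (h4 : Fintype.card ι = 4) {p r : ι → F₀}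
    (hd : rb D p p * rb D r r - rb D p r * rb D p r ≠ 0) {a : ι → F₀} (hap : rb D a p = 0) (har : rb D a r = 0)
    (haa : rb D a a ≠ 0) :
    ∃ b, rb D b p = 0 ∧ rb D b r = 0 ∧ rb D a b = 0 ∧ rb D b b ≠ 0 ∧
      (∀ x, rb D x a = 0 → rb D x b = 0 → ∃ c1 c2 : F₀, x = c1 • p + c2 • r) := by
  have hs := rb_symmetric D
  have h0 := Orth.finrank_le_inf_ker (⊤ : Submodule F₀ (ι → F₀)) (Orth.sfl hs p)
  rw [finrank_top, Module.finrank_fintype_fun_eq_card, top_inf_eq] at h0
  have h1 := Orth.finrank_le_inf_ker (LinearMap.ker (Orth.sfl hs p)) (Orth.sfl hs r)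
  have h2 := Orth.finrank_le_inf_ker (LinearMap.ker (Orth.sfl hs p) ⊓ LinearMap.ker (Orth.sfl hs r)) (Orth.sfl hs a)
  obtain ⟨R, hR⟩ : ∃ R, R = LinearMap.ker (Orth.sfl hs p) ⊓ LinearMap.ker (Orth.sfl hs r) := ⟨_, rfl⟩
  rw [← hR] at h1 h2
  obtain ⟨b, ⟨hbR, hba⟩, hb0⟩ := Submodule.exists_mem_ne_zero_of_ne_bot
    (p := R ⊓ LinearMap.ker (Orth.sfl hs a)) (fun h => by rw [h, finrank_bot] at h2; omega)
  have hbp : rb D b p = 0 := (hR ▸ hbR).1
  have hbr : rb D b r = 0 := (hR ▸ hbR).2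
  have hba' : rb D b a = 0 := hba
  have hab : rb D a b = 0 := (hs.symm _ _).trans hba'
  -- the plane orthogonal to `p`, `r` is spanned by `a`, `b`
  have hindab : ∀ c d : F₀, c • a + d • b = 0 → c = 0 ∧ d = 0 := by
    intro c d h
    have h3 : rb D (c • a + d • b) a = 0 := by rw [h, Orth.sym_zero_left hs]
    rw [hs.bilinear.add_left, hs.bilinear.smul_left, hs.bilinear.smul_left, hba', mul_zero, add_zero] at h3
    obtain rfl := (mul_eq_zero.1 h3).resolve_right haa
    rw [zero_smul, zero_add, smul_eq_zero] at h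
    exact ⟨rfl, h.resolve_right hb0⟩
  have hperp : ∀ x ∈ Submodule.span F₀ (Set.range ![p, r]), ∀ y ∈ R, rb D x y = 0 := by
    intro x hx y hy
    rw [Matrix.range_cons_cons_empty] at hx
    obtain ⟨c, d, rfl⟩ := Submodule.mem_span_pair.1 hx
    rw [hR] at hy
    have hyp : rb D y p = 0 := hy.1
    have hyr : rb D y r = 0 := hy.2
    rw [hs.bilinear.add_left, hs.bilinear.smul_left, hs.bilinear.smul_left, hs.symm p y, hs.symm r y, hyp, hyr,
      mul_zero, mul_zero, add_zero]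
  have hdimR := finrank_add_le_of_orth D hperp
  rw [finrank_pair D (fun c d h => plane_indep D hd h)] at hdimR
  have hspan : Submodule.span F₀ (Set.range ![a, b]) = R := by
    refine Submodule.eq_of_le_of_finrank_le ?_ (by rw [finrank_pair D hindab]; omega)
    rw [Submodule.span_le, Matrix.range_cons_cons_empty]
    rintro x (rfl | rfl)
    · rw [hR]; exact ⟨hap, har⟩
    · exact hbR
  have hzero : ∀ x ∈ R, rb D x a = 0 → rb D x b = 0 → x = 0 := by
    intro x hx hxa hxb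
    by_contra hx0
    obtain ⟨y, hy⟩ := (hs.nondegenerate x hx0).2
    obtain ⟨c1, c2, e1, e2⟩ := plane_proj D hd y
    have hyR : y - c1 • p - c2 • r ∈ R := by rw [hR]; exact ⟨e1, e2⟩
    rw [← hspan, Matrix.range_cons_cons_empty] at hyR
    obtain ⟨c, d, hcd⟩ := Submodule.mem_span_pair.1 hyR
    have hxp : rb D x p = 0 := (hR ▸ hx).1
    have hxr : rb D x r = 0 := (hR ▸ hx).2
    refine hy ?_
    rw [show y = c1 • p + c2 • r + (c • a + d • b) by rw [hcd]; abel]
    simp only [hs.bilinear.add_right, hs.bilinear.smul_right, hxp, hxr, hxa, hxb, mul_zero, add_zero]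
  refine ⟨b, hbp, hbr, hab, fun hbb => hb0 (hzero b hbR hba' hbb), fun x hxa hxb => ?_⟩
  obtain ⟨c1, c2, e1, e2⟩ := plane_proj D hd x
  refine ⟨c1, c2, ?_⟩
  have hw : x - c1 • p - c2 • r = 0 := by
    refine hzero _ (by rw [hR]; exact ⟨e1, e2⟩) ?_ ?_ <;>
      simp only [Orth.sym_sub_left hs, hs.bilinear.smul_left]
    · rw [hxa, hs.symm p a, hs.symm r a, hap, har]; ring
    · rw [hxb, hs.symm p b, hs.symm r b, hbp, hbr]; ring
  rw [sub_sub, sub_eq_zero] at hw
  exact hw

/-! ### centres and rational lines -/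

/-- one transvection at a rational singular point gives all of them -/
theorem centre_of_tv (hM : M ≤ isoU f) (hHM : subfieldSubgroup F₀ P ⊓ (isoU f ⊓ specialLinear ι F) ≤ M)
    {u : ι → F₀} (hu0 : u ≠ 0) (hu : rb D u u = 0) {e : F} (he0 : e ≠ 0) (he : σ e = -e)
    (hT : Has M (em' F₀ P u) (e • hv D.form (em' F₀ P u))) : em' F₀ P u ∈ centres D.form M := by
  have hs := rb_symmetric D
  have h2 := two' D
  obtain ⟨v, hvv, huv⟩ := exists_sing_partner D hu0 hu
  have hvu : rb D v u = 1 := (hs.symm _ _).trans huv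
  obtain ⟨U, hU⟩ : ∃ U, U = em' F₀ P u := ⟨_, rfl⟩
  rw [← hU] at hT ⊢
  have hsq : ∀ s : F₀, Has M U (((s : F) * (s : F) * e) • hv D.form U) := by
    intro s
    rcases eq_or_ne s 0 with rfl | hs0
    · rw [show (((0 : F₀) : F) * ((0 : F₀) : F) * e) = 0 by push_cast; ring, zero_smul]
      exact has_zero_right _
    have h1 : rb D (u - v) (u - v) = -2 := by
      simp only [Orth.sym_sub_left hs, Orth.sym_sub_right hs, hu, hvv, huv, hvu]
      ring
    have h1' : rb D (u - s • v) (u - s • v) = -(2 * s) := by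
      simp only [Orth.sym_sub_left hs, Orth.sym_sub_right hs, hs.bilinear.smul_left, hs.bilinear.smul_right, hu, hvv,
        huv, hvu]
      ring
    obtain ⟨h, hh, hhx⟩ := exists_two_refl D hHM (d1 := u - v) (d2 := u - s • v) (M := M)
      (by rw [h1]; exact neg_ne_zero.2 h2) (by rw [h1']; exact neg_ne_zero.2 (mul_ne_zero h2 hs0))
    have hhu : (h : Matrix ι ι F) *ᵥ U = (s : F) • U := by
      have e1 : rf D (u - s • v) u = s • v := by
        rw [rf, h1', Orth.sym_sub_right hs, hs.bilinear.smul_right, hu, huv,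
          show 2 * (0 - s * 1) / (-(2 * s)) = 1 by field_simp; ring, one_smul, sub_sub_cancel]
      have e2 : rf D (u - v) (s • v) = s • u := by
        rw [rf, h1, hs.bilinear.smul_left, Orth.sym_sub_right hs, hvu, hvv,
          show 2 * (s * (1 - 0)) / (-2) = -s by field_simp; ring, neg_smul, sub_neg_eq_add, smul_sub,
          add_sub_cancel]
      rw [hU, hhx, e1, e2, em_smul]
    have h3 := hT.conj hh
    rw [show (e • hv D.form U) ᵥ* ((h⁻¹ : GL ι F) : Matrix ι ι F) = e • hv D.form ((h : Matrix ι ι F) *ᵥ U) from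
      dot_ext D.form fun x => by
        rw [← dotProduct_mulVec, smul_dotProduct, smul_dotProduct, hv_dot, hv_dot]
        conv_rhs => rw [← gl_mulVec_inv h x, mem_isoU.1 (hM hh)]] at h3
    rw [hhu, has_smul_iff, hv_smul, smul_smul, smul_smul, sfix D] at h3
    rwa [show (s : F) * e * (s : F) = (s : F) * (s : F) * e by ring] at h3
  refine ⟨by rw [hU, ← rb_coe D, hu]; rfl, fun c hc => ?_⟩
  have hl : c / e ∈ F₀ := (D.fix _).2 (by rw [map_div₀, hc, he, neg_div_neg_eq])
  obtain ⟨t, ht⟩ : ∃ t : F₀, (t : F) = c / e := ⟨⟨_, hl⟩, rfl⟩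
  have hc' : c = (((t + 1) / 2 : F₀) : F) * (((t + 1) / 2 : F₀) : F) * e +
      -((((t - 1) / 2 : F₀) : F) * (((t - 1) / 2 : F₀) : F) * e) := by
    push_cast [ht, show ((2 : F₀) : F) = 2 from rfl]
    have := D.two
    field_simp
    ring
  rw [hc', add_smul, neg_smul]
  exact (hsq _).add_right (hsq _).neg

variable (hM : M ≤ isoU f) (hMS : M ≤ specialLinear ι F)
variable (hHM : subfieldSubgroup F₀ P ⊓ (isoU f ⊓ specialLinear ι F) ≤ M)
variable (hno : ∀ v ∈ centres D.form M, v = 0) (h4 : Fintype.card ι = 4)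
include hM hMS hHM hno h4

/-- a map with a rational singular line to a rational line is rational -/
theorem image_of_line {g : GL ι F} (hg : g ∈ M) {u w : ι → F₀} {k : F} (hu0 : u ≠ 0) (hu : rb D u u = 0)
    (hgu : (g : Matrix ι ι F) *ᵥ em' F₀ P u = k • em' F₀ P w) (x : ι → F₀) :
    ip D (σ k • ((g : Matrix ι ι F) *ᵥ em' F₀ P x)) = 0 := by
  have hs := rb_symmetric D
  have hi := mem_isoU.1 (hM hg)
  have hk0 : k ≠ 0 := fun h => em_ne_zero F₀ P hu0 (gl_mulVec_eq_zero.1 (by rw [hgu, h, zero_smul]))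
  have hσk : σ k ≠ 0 := by simpa using hk0
  have hw0 : w ≠ 0 := fun h => em_ne_zero F₀ P hu0 (gl_mulVec_eq_zero.1 (by rw [hgu, h, em_zero, smul_zero]))
  obtain ⟨v, hvv, huv⟩ := exists_sing_partner D hu0 hu
  let J : (ι → F₀) →ₗ[F₀] (ι → F) :=
    { toFun := fun a => σ k • ((g : Matrix ι ι F) *ᵥ em' F₀ P a)
      map_add' := fun a b => by rw [em_add, mulVec_add, smul_add]
      map_smul' := fun c a => by
        show σ k • ((g : Matrix ι ι F) *ᵥ em' F₀ P (c • a)) = (c : F) • σ k • ((g : Matrix ι ι F) *ᵥ em' F₀ P a)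
        rw [em_smul, mulVec_smul, smul_comm] }
  have hJ : ∀ a, σ k • ((g : Matrix ι ι F) *ᵥ em' F₀ P a) = J a := fun a => rfl
  obtain ⟨U, hU⟩ : ∃ U, U = LinearMap.ker (Orth.sfl hs u) := ⟨_, rfl⟩
  have hmemU : ∀ {a}, a ∈ U → rb D u a = 0 := fun {a} ha => by rw [hU] at ha; rw [hs.symm]; exact ha
  have hzero : ∀ a ∈ U, ip D (J a) = 0 := fun a ha => by
    rw [← hJ]; exact case_line D hM hHM hno hg hu0 hu hgu (hmemU ha)
  have hrat : ∀ a ∈ U, J a = em' F₀ P (rp D (J a)) := fun a ha => by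
    conv_lhs => rw [decomp D (J a), hzero a ha, em_zero, smul_zero, add_zero]
  have hNk : ∀ a b, f (J a) (J b) = σ k * k * f (em' F₀ P a) (em' F₀ P b) := fun a b => by
    rw [← hJ, ← hJ, D.form.smul_left, herm_smul_right D.form, D.form.involutive, hi]
    ring
  obtain ⟨A, hA⟩ : ∃ A, A = rp D (J v) := ⟨_, rfl⟩
  obtain ⟨C, hC⟩ : ∃ C, C = ip D (J v) := ⟨_, rfl⟩
  have hJv : J v = em' F₀ P A + θ • em' F₀ P C := by rw [hA, hC]; exact decomp D _
  have hgw : (g : Matrix ι ι F) *ᵥ em' F₀ P u = k • em' F₀ P w := hgu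
  have hww : rb D w w = 0 := by
    have h : f ((g : Matrix ι ι F) *ᵥ em' F₀ P u) ((g : Matrix ι ι F) *ᵥ em' F₀ P u) = 0 := by
      rw [hi, ← rb_coe D, hu]; rfl
    rw [hgu, D.form.smul_left, herm_smul_right D.form, mul_eq_zero, mul_eq_zero, ← rb_coe D] at h
    exact Subtype.ext ((h.resolve_left hk0).resolve_left hσk)
  -- the image of the hyperplane of `u`
  let L : U →ₗ[F₀] (ι → F₀) := ((rp D).comp J).comp U.subtype
  have hLinj : Function.Injective L := by
    rw [← LinearMap.ker_eq_bot, Submodule.eq_bot_iff]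
    intro a ha
    have h : rp D (J a) = 0 := ha
    have h1 := hrat a a.2
    rw [h, em_zero, ← hJ, smul_eq_zero] at h1
    exact Subtype.ext (em_injective F₀ P ((gl_mulVec_eq_zero.1 (h1.resolve_left hσk)).trans (em_zero F₀ P).symm))
  have horth : ∀ y ∈ LinearMap.range L, ∀ z ∈ Submodule.span F₀ ({w, C} : Set (ι → F₀)), rb D y z = 0 := by
    rintro _ ⟨a, rfl⟩ z hz
    obtain ⟨c, d, rfl⟩ := Submodule.mem_span_pair.1 hz
    obtain ⟨a', ha'⟩ : ∃ a', a' = rp D (J a) := ⟨_, rfl⟩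
    show rb D (rp D (J a)) _ = 0
    rw [← ha']
    have e1 : rb D a' w = 0 := by
      have h : f (J a) (k • em' F₀ P w) = 0 := by
        rw [← hgu, ← hJ, D.form.smul_left, hi, ← rb_coe D, hs.symm, hmemU a.2]
        push_cast
        ring
      rw [hrat a a.2, ← ha', herm_smul_right D.form, mul_eq_zero, ← rb_coe D] at h
      exact Subtype.ext (h.resolve_left hσk)
    have e2 : rb D a' C = 0 := by
      have h : f (J a) (J v) = σ k * k * (rb D a v : F₀) := by rw [hNk, rb_coe]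
      rw [hrat a a.2, ← ha', hJv, herm_add_right D.form, herm_smul_right D.form, D.bar, ← rb_coe D,
        ← rb_coe D] at h
      have h1 := congrArg σ h
      simp only [map_add, map_mul, map_neg, sfix D, D.bar, D.form.involutive, neg_neg] at h1
      have h3 : (2 * θ) * ((rb D a' C : F₀) : F) = 0 := by linear_combination h1 - h
      exact Subtype.ext ((mul_eq_zero.1 h3).resolve_left (mul_ne_zero D.two D.ne_zero))
    rw [hs.bilinear.add_right, hs.bilinear.smul_right, hs.bilinear.smul_right, e1, e2, mul_zero, mul_zero, add_zero]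
  have hdim := finrank_add_le_of_orth D horth
  rw [LinearMap.finrank_range_of_inj hLinj] at hdim
  have hk1 := Orth.finrank_le_inf_ker (⊤ : Submodule F₀ (ι → F₀)) (Orth.sfl hs u)
  rw [finrank_top, Module.finrank_fintype_fun_eq_card, top_inf_eq, ← hU] at hk1
  obtain ⟨c, hc⟩ : ∃ c : F₀, c • w = C := by
    refine Submodule.mem_span_singleton.1 ?_
    have hle : Submodule.span F₀ ({w} : Set (ι → F₀)) ≤ Submodule.span F₀ ({w, C} : Set (ι → F₀)) :=
      Submodule.span_mono (by simp)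
    rw [Submodule.eq_of_le_of_finrank_le hle (by rw [finrank_span_singleton hw0]; omega)]
    exact Submodule.subset_span (by simp)
  have hgen : ∀ x, (g : Matrix ι ι F) *ᵥ em' F₀ P x =
      (σ k)⁻¹ • (em' F₀ P (rp D (J (x - rb D x u • v)) + rb D x u • A) + (θ * (rb D x u * c : F₀)) • em' F₀ P w) := by
    intro x
    have hxU : x - rb D x u • v ∈ U := by
      rw [hU]
      show rb D (x - rb D x u • v) u = 0
      rw [Orth.sym_sub_left hs, hs.bilinear.smul_left, hs.symm v u, huv, mul_one, sub_self]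
    have h : J x = J (x - rb D x u • v) + rb D x u • J v := by
      rw [← map_smul, ← map_add, sub_add_cancel]
    conv_lhs => rw [← inv_smul_smul₀ hσk ((g : Matrix ι ι F) *ᵥ em' F₀ P x), hJ, h, hrat _ hxU, hJv, ← hc,
      Subfield.smul_def, em_smul]
    conv_rhs => rw [em_add, em_smul]
    push_cast
    congr 1
    module
  have hc0 : c = 0 := by
    by_contra hc0
    have he : σ (-(θ * (c : F))) = -(-(θ * (c : F))) := by rw [map_neg, map_mul, D.bar, sfix D, neg_mul]
    obtain ⟨W, hW⟩ : ∃ W, W = em' F₀ P w := ⟨_, rfl⟩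
    have hWW : f W W = 0 := by rw [hW, ← rb_coe D, hww]; rfl
    have h0 := utv_orth D.form hWW (-(θ * (c : F)))
    obtain ⟨T, hTdef⟩ : ∃ T, T = tv W (-(θ * (c : F)) • hv D.form W) h0 := ⟨_, rfl⟩
    have hTI : T ∈ isoU f := hTdef ▸ mem_isoU.2 (utv_isometry D.form W hWW he h0)
    have hTS : T ∈ specialLinear ι F := hTdef ▸ tv_mem_SL _ _ _
    have hgW : ∀ x, f ((g : Matrix ι ι F) *ᵥ em' F₀ P x) W = (σ k)⁻¹ * (rb D x u : F₀) := by
      intro x
      have h : f ((g : Matrix ι ι F) *ᵥ em' F₀ P x) (k • W) = (rb D x u : F₀) := by rw [hW, ← hgu, hi, rb_coe]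
      rw [herm_smul_right D.form] at h
      rw [← h, inv_mul_cancel_left₀ hσk]
    have hTg : T * g ∈ subfieldSubgroup F₀ P := by
      refine Subf.mem_subfieldSubgroup_of_image F₀ P (inv_ne_zero hσk) fun i =>
        ⟨rp D (J (Pi.single i 1 - rb D (Pi.single i 1) u • v)) + rb D (Pi.single i 1) u • A, ?_⟩
      rw [gl_mul_mulVec, hTdef, tv_mulVec, smul_dotProduct, hv_dot, smul_eq_mul, hgW, hgen, hW]
      push_cast
      module
    have hTgM : T * g ∈ M := hHM ⟨hTg, mul_mem hTI (hM hg), mul_mem hTS (hMS hg)⟩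
    have hTM : T ∈ M := by
      have := M.mul_mem hTgM (M.inv_mem hg)
      rwa [mul_inv_cancel_right] at this
    refine em_ne_zero F₀ P hw0 (hno _ (centre_of_tv D hM hHM hw0 hww (e := -(θ * (c : F)))
      (neg_ne_zero.2 (mul_ne_zero D.ne_zero fun h => hc0 (Subtype.ext h))) he ?_))
    rw [← hW]
    exact ⟨h0, hTdef ▸ hTM⟩
  have hJx : σ k • ((g : Matrix ι ι F) *ᵥ em' F₀ P x) =
      em' F₀ P (rp D (J (x - rb D x u • v)) + rb D x u • A) := by
    rw [hgen, hc0, smul_inv_smul₀ hσk]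
    push_cast
    rw [mul_zero, mul_zero, zero_smul, add_zero]
  rw [hJx]
  exact (rat_parts D _).2

theorem rational_of_line {g : GL ι F} (hg : g ∈ M) {u w : ι → F₀} {k : F} (hu0 : u ≠ 0) (hu : rb D u u = 0)
    (hgu : (g : Matrix ι ι F) *ᵥ em' F₀ P u = k • em' F₀ P w) : g ∈ subfieldSubgroup F₀ P := by
  have hk0 : k ≠ 0 := fun h => em_ne_zero F₀ P hu0 (gl_mulVec_eq_zero.1 (by rw [hgu, h, zero_smul]))
  have hσk : σ k ≠ 0 := by simpa using hk0
  refine Subf.mem_subfieldSubgroup_of_image F₀ P (inv_ne_zero hσk) fun i =>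
    ⟨rp D (σ k • ((g : Matrix ι ι F) *ᵥ em' F₀ P (Pi.single i 1))), ?_⟩
  have h := decomp D (σ k • ((g : Matrix ι ι F) *ᵥ em' F₀ P (Pi.single i 1)))
  rw [image_of_line D hM hMS hHM hno h4 hg hu0 hu hgu, em_zero, smul_zero, add_zero] at h
  rw [← h, inv_smul_smul₀ hσk]

omit hM hMS hHM hno h4 in
theorem line_of_dep {p r : ι → F₀} (h : ¬∀ c d : F₀, c • p + d • r = 0 → c = 0 ∧ d = 0) :
    ∃ (k : F) (w : ι → F₀), em' F₀ P p + θ • em' F₀ P r = k • em' F₀ P w := by
  push Not at h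
  obtain ⟨c, d, hcd, hne⟩ := h
  rcases eq_or_ne c 0 with hc | hc
  · rw [hc, zero_smul, zero_add, smul_eq_zero] at hcd
    exact ⟨1, p, by rw [hcd.resolve_left (hne hc), em_zero, smul_zero, add_zero, one_smul]⟩
  · have hp : p = (-(d / c)) • r := by
      rw [neg_smul, eq_neg_iff_add_eq_zero, ← inv_smul_smul₀ hc p, div_eq_inv_mul, mul_smul, ← smul_add, hcd,
        smul_zero]
    exact ⟨((-(d / c) : F₀) : F) + θ, r, by rw [hp, em_smul, add_smul]⟩

/-- the plane of the image of a rational singular vector is not totally singular -/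
theorem plane_disc {g : GL ι F} (hg : g ∈ M) {u p r : ι → F₀} (hu0 : u ≠ 0) (hu : rb D u u = 0)
    (hgu : (g : Matrix ι ι F) *ᵥ em' F₀ P u = em' F₀ P p + θ • em' F₀ P r)
    (hind : ∀ c d : F₀, c • p + d • r = 0 → c = 0 ∧ d = 0) :
    rb D p p * rb D r r - rb D p r * rb D p r ≠ 0 := by
  have hs := rb_symmetric D
  have hi := mem_isoU.1 (hM hg)
  have hpp : rb D p p = dl D * rb D r r := f_iso_parts D (by rw [← hgu, hi, ← rb_coe D, hu]; rfl)
  classical
  refine disc_of D hpp fun ⟨hrr, hpr⟩ => ?_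
  rw [hrr, mul_zero] at hpp
  obtain ⟨S, hS⟩ : ∃ S, S = Submodule.span F₀ (Set.range ![p, r]) := ⟨_, rfl⟩
  have hS2 : Module.finrank F₀ S = 2 := hS ▸ finrank_pair D hind
  -- the images of the hyperplane of `u` have parts in the plane
  have hmem : ∀ a, rb D u a = 0 → rp D ((g : Matrix ι ι F) *ᵥ em' F₀ P a) ∈ S ∧
      ip D ((g : Matrix ι ι F) *ᵥ em' F₀ P a) ∈ S := by
    intro a ha
    obtain ⟨a1, h1⟩ : ∃ a1, a1 = rp D ((g : Matrix ι ι F) *ᵥ em' F₀ P a) := ⟨_, rfl⟩
    obtain ⟨a2, h2⟩ : ∃ a2, a2 = ip D ((g : Matrix ι ι F) *ᵥ em' F₀ P a) := ⟨_, rfl⟩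
    have hga : (g : Matrix ι ι F) *ᵥ em' F₀ P a = em' F₀ P a1 + θ • em' F₀ P a2 := by rw [h1, h2]; exact decomp D _
    have hdet := parts_det D hM hHM hno hg hu0 hu ha hgu hga (w := p) (b := r) hpp hpr hpp
      ((hs.symm _ _).trans hpr) hrr hpr
    have hf0 : f ((g : Matrix ι ι F) *ᵥ em' F₀ P a) ((g : Matrix ι ι F) *ᵥ em' F₀ P u) = 0 := by
      rw [hi, ← rb_coe D, hs.symm, ha]; rfl
    rw [hga, hgu, f_mixed D] at hf0
    obtain ⟨e1, e2⟩ := coe_split_unique D (x := rb D a1 p - dl D * rb D a2 r) (y := rb D a2 p - rb D a1 r)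
      (x' := 0) (y' := 0) (by push_cast [dl_coe]; linear_combination hf0)
    rw [sub_eq_zero] at e1 e2
    rw [e1, e2] at hdet
    have hY : rb D a2 r = 0 := by
      by_contra hY
      refine dl_not_sq D (rb D a1 r / rb D a2 r) ?_
      field_simp
      linear_combination hdet
    rw [hY, mul_zero] at e1
    have hX : rb D a1 r = 0 := mul_self_eq_zero.1 (by rw [hY] at hdet; linear_combination -hdet)
    rw [hX] at e2
    rw [← h1, ← h2]
    have key : ∀ y, rb D y p = 0 → rb D y r = 0 → y ∈ S := by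
      intro y hyp hyr
      have horth : ∀ x ∈ S, ∀ z ∈ S ⊔ Submodule.span F₀ {y}, rb D x z = 0 := by
        intro x hx z hz
        obtain ⟨s, hs', t, ht, rfl⟩ := Submodule.mem_sup.1 hz
        obtain ⟨l, rfl⟩ := Submodule.mem_span_singleton.1 ht
        rw [hS, Matrix.range_cons_cons_empty] at hx hs'
        obtain ⟨c, d, rfl⟩ := Submodule.mem_span_pair.1 hx
        obtain ⟨c', d', rfl⟩ := Submodule.mem_span_pair.1 hs'
        simp only [hs.bilinear.add_left, hs.bilinear.smul_left, hs.bilinear.add_right, hs.bilinear.smul_right,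
          hs.symm p y, hs.symm r y, hs.symm r p, hyp, hyr, hpp, hrr, hpr, mul_zero, add_zero]
      have hle := finrank_add_le_of_orth D horth
      rw [Submodule.eq_of_le_of_finrank_le (le_sup_left : S ≤ S ⊔ Submodule.span F₀ {y}) (by omega)]
      exact Submodule.mem_sup_right (Submodule.mem_span_singleton_self y)
    exact ⟨key a1 e1 hX, key a2 e2 hY⟩
  obtain ⟨U, hU⟩ : ∃ U, U = LinearMap.ker (Orth.sfl hs u) := ⟨_, rfl⟩
  have hk1 := Orth.finrank_le_inf_ker (⊤ : Submodule F₀ (ι → F₀)) (Orth.sfl hs u)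
  rw [finrank_top, Module.finrank_fintype_fun_eq_card, top_inf_eq, ← hU] at hk1
  let b := Module.finBasis F₀ U
  have hli : LinearIndependent F₀ fun i => (b i : ι → F₀) := b.linearIndependent.map' U.subtype U.ker_subtype
  have hliF := em_indep D (g := g) hli
  obtain ⟨T, hT⟩ : ∃ T, T = Submodule.span F ({em' F₀ P p, em' F₀ P r} : Set (ι → F)) := ⟨_, rfl⟩
  have hmemT : ∀ y ∈ S, em' F₀ P y ∈ T := by
    intro y hy
    rw [hS, Matrix.range_cons_cons_empty] at hy
    obtain ⟨c, d, rfl⟩ := Submodule.mem_span_pair.1 hy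
    rw [em_add, em_smul, em_smul, hT]
    exact Submodule.add_mem _ (Submodule.smul_mem _ _ (Submodule.subset_span (by simp)))
      (Submodule.smul_mem _ _ (Submodule.subset_span (by simp)))
  have hsub : Submodule.span F (Set.range fun i => (g : Matrix ι ι F) *ᵥ em' F₀ P (b i : ι → F₀)) ≤ T := by
    rw [Submodule.span_le]
    rintro _ ⟨i, rfl⟩
    have hi' : rb D u (b i : ι → F₀) = 0 := by
      have h : (b i : ι → F₀) ∈ LinearMap.ker (Orth.sfl hs u) := hU.le (b i).2
      exact (hs.symm _ _).trans h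
    simp only [SetLike.mem_coe]
    rw [decomp D ((g : Matrix ι ι F) *ᵥ em' F₀ P (b i : ι → F₀))]
    exact T.add_mem (hmemT _ (hmem _ hi').1) (T.smul_mem θ (hmemT _ (hmem _ hi').2))
  have h1 := finrank_span_eq_card hliF
  rw [Fintype.card_fin] at h1
  have h3 := Submodule.finrank_mono hsub
  have hT2 : Module.finrank F T ≤ 2 := by
    rw [hT]
    refine (finrank_span_le_card _).trans ?_
    rw [Set.toFinset_insert, Set.toFinset_singleton]
    exact Finset.card_le_two
  omega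

end CfsgLib.Perm.Trans.Unit.ORat
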