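import Cfsg.Agent.Lib.Perm.Trans.UnitFour.OrthBasic

/-!
# Four dimensional unitary spaces: an overgroup without transvections preserves the rational structure
-/

set_option autoImplicit false
set_option linter.all false

namespace CfsgLib.Perm.Trans.Unit.ORat

open scoped Matrix
open Matrix Cfsg.Geo CfsgLib.Perm.Asch CfsgLib.Perm.Trans
open CfsgLib.Perm.Trans.Subf (em_add em_neg em_sub em_smul em_zero em_injective em_ne_zero)

variable {ι : Type} [Fintype ι] [DecidableEq ι] {F : Type*} [Field F] [Fintype F]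
variable {σ : F ≃+* F} {f : (ι → F) → (ι → F) → F} {F₀ : Subfield F} {P : GL ι F} {θ : F}

local notation "em'" => CfsgLib.Perm.Trans.Subf.em

variable (D : OD σ f F₀ P θ) {M : Subgroup (GL ι F)}
include D

omit D in
theorem exists_avoid3 (hq : 5 ≤ Nat.card F₀) (a b c : F₀) : ∃ x : F₀, x ≠ a ∧ x ≠ b ∧ x ≠ c := by
  classical
  haveI : Fintype F₀ := Fintype.ofFinite _
  by_contra hcon
  push Not at hcon
  have hsub : (Finset.univ : Finset F₀) ⊆ {a, b, c} := fun x _ => by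
    simp only [Finset.mem_insert, Finset.mem_singleton]
    by_cases h1 : x = a
    · exact Or.inl h1
    by_cases h2 : x = b
    · exact Or.inr (Or.inl h2)
    exact Or.inr (Or.inr (hcon x h1 h2))
  have h := (Finset.card_le_card hsub).trans Finset.card_le_three
  rw [Finset.card_univ, ← Nat.card_eq_fintype_card] at h
  omega

omit D in
theorem exists_torus (hq : 5 ≤ Nat.card F₀) : ∃ s : F₀, s ≠ 0 ∧ s * s ≠ 1 := by
  obtain ⟨s, h0, h1, h1'⟩ := exists_avoid3 hq 0 1 (-1)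
  refine ⟨s, h0, fun h => ?_⟩
  have h' : (s - 1) * (s + 1) = 0 := by linear_combination h
  exact (mul_eq_zero.1 h').elim (fun e => h1 (sub_eq_zero.1 e)) (fun e => h1' (eq_neg_of_add_eq_zero_left e))

omit D in
theorem exists_slope (hq : 5 ≤ Nat.card F₀) {A B : F₀} (hA : A ≠ 0) (hB : B ≠ 0) :
    ∃ t : F₀, t ≠ 0 ∧ A + t * t * B ≠ 0 := by
  obtain ⟨s, h0, h1⟩ := exists_torus hq
  by_cases h : A + 1 * 1 * B = 0
  · refine ⟨s, h0, fun h' => ?_⟩
    have h2 : (s * s - 1) * B = 0 := by linear_combination h' - h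
    exact hB ((mul_eq_zero.1 h2).resolve_left (sub_ne_zero.2 h1))
  · exact ⟨1, one_ne_zero, h⟩

/-- the product of two reflections in an orthogonal plane -/
theorem rot_eq {a b : ι → F₀} (hab : rb D a b = 0) (haa : rb D a a ≠ 0) (t : F₀) (x : ι → F₀) :
    rf D (a + t • b) (rf D a x) = x - (2 * rb D x a / rb D a a) • a -
      (2 * (t * rb D x b - rb D x a) / rb D (a + t • b) (a + t • b)) • (a + t • b) := by
  have hs := rb_symmetric D
  have h : rb D (rf D a x) (a + t • b) = t * rb D x b - rb D x a := by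
    rw [rf_rb, hs.bilinear.add_right, hs.bilinear.add_right, hs.bilinear.smul_right, hs.bilinear.smul_right, hab]
    field_simp
    ring
  rw [rf, h]
  rfl

theorem rot_norm {a b : ι → F₀} (hab : rb D a b = 0) (t : F₀) :
    rb D (a + t • b) (a + t • b) = rb D a a + t * t * rb D b b := by
  have hs := rb_symmetric D
  rw [hs.bilinear.add_left, hs.bilinear.add_right, hs.bilinear.add_right, hs.bilinear.smul_left,
    hs.bilinear.smul_left, hs.bilinear.smul_right, hs.bilinear.smul_right, hs.symm b a, hab]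
  ring

variable (hM : M ≤ isoU f) (hMS : M ≤ specialLinear ι F)
variable (hHM : subfieldSubgroup F₀ P ⊓ (isoU f ⊓ specialLinear ι F) ≤ M)
variable (hno : ∀ v ∈ centres D.form M, v = 0) (h4 : Fintype.card ι = 4) (hq : 5 ≤ Nat.card F₀)
include hM hMS hHM hno h4 hq

omit hMS h4 in
/-- the parts of an image, seen from the plane orthogonal to the centre, are dependent -/
theorem dep {g : GL ι F} (hg : g ∈ M) {u a0 v1 v2 a1 a2 a b : ι → F₀} (hu0 : u ≠ 0) (hu : rb D u u = 0)
    (ha0 : rb D u a0 = 0) (hgu : (g : Matrix ι ι F) *ᵥ em' F₀ P u = em' F₀ P v1 + θ • em' F₀ P v2)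
    (hga : (g : Matrix ι ι F) *ᵥ em' F₀ P a0 = em' F₀ P a1 + θ • em' F₀ P a2)
    (ha1 : rb D a v1 = 0) (ha2 : rb D a v2 = 0) (hb1 : rb D b v1 = 0) (hb2 : rb D b v2 = 0)
    (hab : rb D a b = 0) (haa : rb D a a ≠ 0) (hbb : rb D b b ≠ 0) :
    rb D a1 a * rb D a2 b = rb D a1 b * rb D a2 a := by
  have hs := rb_symmetric D
  obtain ⟨t, ht, hcc⟩ := exists_slope hq haa hbb
  rw [← rot_norm D hab] at hcc
  obtain ⟨h, hh, hhx⟩ := exists_two_refl D hHM hcc haa (M := M)
  have hA := HM.conj D hM (HM.rat D hHM hu ha0) hg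
  rw [hgu, hga] at hA
  have hA' := HM.conj D hM hA hh
  have hfix1 : rf D (a + t • b) (rf D a v1) = v1 := by
    rw [rf_fix D (x := v1) (d := a) ((hs.symm _ _).trans ha1), rf_fix D]
    rw [hs.bilinear.add_right, hs.bilinear.smul_right, hs.symm v1 a, hs.symm v1 b, ha1, hb1, mul_zero, add_zero]
  have hfix2 : rf D (a + t • b) (rf D a v2) = v2 := by
    rw [rf_fix D (x := v2) (d := a) ((hs.symm _ _).trans ha2), rf_fix D]
    rw [hs.bilinear.add_right, hs.bilinear.smul_right, hs.symm v2 a, hs.symm v2 b, ha2, hb2, mul_zero, add_zero]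
  rw [act_parts D (L := fun x => rf D (a + t • b) (rf D a x)) hhx v1 v2, hfix1, hfix2,
    act_parts D (L := fun x => rf D (a + t • b) (rf D a x)) hhx a1 a2] at hA'
  have hU0 : em' F₀ P v1 + θ • em' F₀ P v2 ≠ 0 := fun h => em_ne_zero F₀ P hu0 (gl_mulVec_eq_zero.1 (hgu.trans h))
  by_contra hne
  refine hU0 (hno _ (centre_of_pair D hA hA' fun hmem => hne ?_))
  rw [f_mixed D] at hmem
  have h1 := (D.fix _).1 hmem
  simp only [map_add, map_sub, map_mul, sfix D, D.bar] at h1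
  have h2 : rb D a2 (rf D (a + t • b) (rf D a a1)) - rb D a1 (rf D (a + t • b) (rf D a a2)) = 0 := by
    refine Subtype.ext ?_
    push_cast
    exact (mul_eq_zero.1 (show (2 * θ) * (((rb D a2 (rf D (a + t • b) (rf D a a1)) : F₀) : F) -
      (rb D a1 (rf D (a + t • b) (rf D a a2)) : F₀)) = 0 by linear_combination -h1)).resolve_left
      (mul_ne_zero D.two D.ne_zero)
  simp only [rot_eq D hab haa] at h2
  generalize hC : rb D (a + t • b) (a + t • b) = C at h2 hcc
  simp only [Orth.sym_sub_right hs, hs.bilinear.smul_right, hs.bilinear.add_right, hs.symm a2 a1] at h2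
  have h4' : (2 : F₀) * 2 * t * (rb D a1 b * rb D a2 a - rb D a1 a * rb D a2 b) = 0 := by
    field_simp at h2
    refine (mul_eq_zero.1 (?_ : rb D a a * _ = 0)).resolve_left haa
    first | linear_combination h2 | linear_combination -h2
  exact (sub_eq_zero.1 ((mul_eq_zero.1 h4').resolve_left (mul_ne_zero (mul_ne_zero (two' D) (two' D)) ht))).symm

/-- without centres the overgroup is rational -/
theorem rational_of_four {g : GL ι F} (hg : g ∈ M) : g ∈ subfieldSubgroup F₀ P := by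
  classical
  have hs := rb_symmetric D
  have hi := mem_isoU.1 (hM hg)
  obtain ⟨u, hu0, hu⟩ := exists_singular D
  obtain ⟨p, hp⟩ : ∃ p, p = rp D ((g : Matrix ι ι F) *ᵥ em' F₀ P u) := ⟨_, rfl⟩
  obtain ⟨r, hr⟩ : ∃ r, r = ip D ((g : Matrix ι ι F) *ᵥ em' F₀ P u) := ⟨_, rfl⟩
  have hgu : (g : Matrix ι ι F) *ᵥ em' F₀ P u = em' F₀ P p + θ • em' F₀ P r := by rw [hp, hr]; exact decomp D _
  by_cases hind : ∀ c d : F₀, c • p + d • r = 0 → c = 0 ∧ d = 0
  swap
  · obtain ⟨k, w, hkw⟩ := line_of_dep D hind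
    exact rational_of_line D hM hMS hHM hno h4 hg hu0 hu (hgu.trans hkw)
  exfalso
  have hd := plane_disc D hM hMS hHM hno h4 hg hu0 hu hgu hind
  have hpp : rb D p p = dl D * rb D r r := f_iso_parts D (by rw [← hgu, hi, ← rb_coe D, hu]; rfl)
  obtain ⟨a, hap, har, haa⟩ := exists_perp_aniso D h4 hd
  obtain ⟨b, hbp, hbr, hab, hbb, hSperp⟩ := exists_frame D h4 hd hap har haa
  have hpa : rb D p a = 0 := (hs.symm _ _).trans hap
  have hra : rb D r a = 0 := (hs.symm _ _).trans har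
  have hpb : rb D p b = 0 := (hs.symm _ _).trans hbp
  have hrb : rb D r b = 0 := (hs.symm _ _).trans hbr
  obtain ⟨t, ht, hcc⟩ := exists_slope hq haa hbb
  rw [← rot_norm D hab] at hcc
  obtain ⟨ρ, hρ, hρx⟩ := exists_two_refl D hHM hcc haa (M := M)
  have hρ0 : ∀ y, rb D y a = 0 → rb D y b = 0 → rf D (a + t • b) (rf D a y) = y := fun y ha' hb' => by
    rw [rot_eq D hab haa, ha', hb']
    simp
  -- the conjugate rotation fixes `u`
  obtain ⟨h', hh'def⟩ : ∃ h', h' = g⁻¹ * ρ * g := ⟨_, rfl⟩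
  have hh' : h' ∈ M := hh'def ▸ M.mul_mem (M.mul_mem (M.inv_mem hg) hρ) hg
  have hgh : ∀ X, (g : Matrix ι ι F) *ᵥ ((h' : Matrix ι ι F) *ᵥ X) =
      (ρ : Matrix ι ι F) *ᵥ ((g : Matrix ι ι F) *ᵥ X) := fun X => by
    rw [← gl_mul_mulVec, ← gl_mul_mulVec, hh'def, ← mul_assoc, ← mul_assoc, mul_inv_cancel, one_mul]
  have hh'u : (h' : Matrix ι ι F) *ᵥ em' F₀ P u = (1 : F) • em' F₀ P u := by
    rw [one_smul, hh'def, gl_mul_mulVec, gl_mul_mulVec, hgu,
      act_parts D (L := fun x => rf D (a + t • b) (rf D a x)) hρx, hρ0 p hpa hpb, hρ0 r hra hrb, ← hgu, gl_inv_mulVec]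
  let B : (ι → F₀) →ₗ[F₀] (ι → F₀) :=
    { toFun := fun x => rp D ((h' : Matrix ι ι F) *ᵥ em' F₀ P x)
      map_add' := fun x y => by rw [em_add, mulVec_add, map_add]
      map_smul' := fun c x => by
        rw [em_smul, mulVec_smul]
        exact (rp D).map_smul c _ }
  have hB : ∀ x, (h' : Matrix ι ι F) *ᵥ em' F₀ P x = em' F₀ P (B x) := fun x => by
    have h := image_of_line D hM hMS hHM hno h4 hh' hu0 hu hh'u x
    rw [map_one, one_smul] at h
    conv_lhs => rw [decomp D ((h' : Matrix ι ι F) *ᵥ em' F₀ P x), h, em_zero, smul_zero, add_zero]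
    rfl
  -- its moved space is small
  obtain ⟨Δ, hΔ⟩ : ∃ Δ : (ι → F₀) →ₗ[F₀] (ι → F₀), Δ = B - LinearMap.id := ⟨_, rfl⟩
  obtain ⟨T, hT⟩ : ∃ T, T = Submodule.span F ({em' F₀ P a, em' F₀ P b} : Set (ι → F)) := ⟨_, rfl⟩
  have haT : em' F₀ P a ∈ T := hT ▸ Submodule.subset_span (by simp)
  have hbT : em' F₀ P b ∈ T := hT ▸ Submodule.subset_span (by simp)
  have hrotT : ∀ y, em' F₀ P (rf D (a + t • b) (rf D a y) - y) ∈ T := fun y => by
    rw [rot_eq D hab haa, em_sub, em_sub, em_sub, em_smul, em_smul, em_add, em_smul,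
      show ∀ A B C : ι → F, A - B - C - A = -(B + C) from fun A B C => by abel]
    exact T.neg_mem (T.add_mem (T.smul_mem _ haT) (T.smul_mem _ (T.add_mem haT (T.smul_mem _ hbT))))
  have hΔT : ∀ x, (g : Matrix ι ι F) *ᵥ em' F₀ P (Δ x) ∈ T := by
    intro x
    rw [hΔ, LinearMap.sub_apply, LinearMap.id_apply, em_sub, mulVec_sub, ← hB, hgh,
      decomp D ((g : Matrix ι ι F) *ᵥ em' F₀ P x), act_parts D (L := fun x => rf D (a + t • b) (rf D a x)) hρx,
      show ∀ A B C E : ι → F, A + θ • B - (C + θ • E) = (A - C) + θ • (B - E) from fun A B C E => by module,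
      ← em_sub, ← em_sub]
    exact T.add_mem (hrotT _) (T.smul_mem θ (hrotT _))
  let bb := Module.finBasis F₀ (LinearMap.range Δ)
  have hli : LinearIndependent F₀ fun i => (bb i : ι → F₀) :=
    bb.linearIndependent.map' (LinearMap.range Δ).subtype (LinearMap.range Δ).ker_subtype
  have hliF := em_indep D (g := g) hli
  have hsub : Submodule.span F (Set.range fun i => (g : Matrix ι ι F) *ᵥ em' F₀ P (bb i : ι → F₀)) ≤ T := by
    rw [Submodule.span_le]
    rintro _ ⟨i, rfl⟩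
    obtain ⟨x, hx⟩ := (bb i).2
    simp only [SetLike.mem_coe]
    rw [← hx]
    exact hΔT x
  have hr1 := finrank_span_eq_card hliF
  rw [Fintype.card_fin] at hr1
  have hr2 := Submodule.finrank_mono hsub
  have hr3 : Module.finrank F T ≤ 2 := by
    rw [hT]
    refine (finrank_span_le_card _).trans ?_
    rw [Set.toFinset_insert, Set.toFinset_singleton]
    exact Finset.card_le_two
  have hr4 := LinearMap.finrank_range_add_finrank_ker Δ
  rw [Module.finrank_fintype_fun_eq_card, h4] at hr4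
  obtain ⟨z, hzk, hzu⟩ : ∃ z ∈ LinearMap.ker Δ, z ∉ Submodule.span F₀ ({u} : Set (ι → F₀)) := by
    by_contra hcon
    push Not at hcon
    have h1 := Submodule.finrank_mono (show LinearMap.ker Δ ≤ Submodule.span F₀ ({u} : Set (ι → F₀)) from hcon)
    rw [finrank_span_singleton hu0] at h1
    omega
  have hBz : B z = z := by
    have h := LinearMap.mem_ker.1 hzk
    rw [hΔ, LinearMap.sub_apply, LinearMap.id_apply, sub_eq_zero] at h
    exact h
  obtain ⟨y1, hy1⟩ : ∃ y, y = rp D ((g : Matrix ι ι F) *ᵥ em' F₀ P z) := ⟨_, rfl⟩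
  obtain ⟨y2, hy2⟩ : ∃ y, y = ip D ((g : Matrix ι ι F) *ᵥ em' F₀ P z) := ⟨_, rfl⟩
  have hgz : (g : Matrix ι ι F) *ᵥ em' F₀ P z = em' F₀ P y1 + θ • em' F₀ P y2 := by rw [hy1, hy2]; exact decomp D _
  have hyfix : ∀ y, rf D (a + t • b) (rf D a y) = y → rb D y a = 0 ∧ rb D y b = 0 := by
    intro y hy
    rw [rot_eq D hab haa, sub_sub, sub_eq_self] at hy
    obtain ⟨C, hC⟩ : ∃ C, C = rb D (a + t • b) (a + t • b) := ⟨_, rfl⟩
    rw [← hC] at hy
    have hcc' : C ≠ 0 := hC ▸ hcc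
    have h1 := congrArg (fun v => rb D v b) hy
    have h3 := congrArg (fun v => rb D v a) hy
    simp only [hs.bilinear.add_left, hs.bilinear.smul_left, hab, hs.symm b a, Orth.sym_zero_left hs, mul_zero,
      zero_add, add_zero] at h1 h3
    rw [mul_eq_zero, or_iff_left (mul_ne_zero ht hbb), div_eq_zero_iff, or_iff_left hcc', mul_eq_zero,
      or_iff_right (two' D), sub_eq_zero] at h1
    rw [h1, sub_self, mul_zero, zero_div, zero_mul, add_zero, div_mul_cancel₀ _ haa, mul_eq_zero,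
      or_iff_right (two' D)] at h3
    exact ⟨h3, (mul_eq_zero.1 (h1.trans h3)).resolve_left ht⟩
  have hyy : (rb D y1 a = 0 ∧ rb D y1 b = 0) ∧ (rb D y2 a = 0 ∧ rb D y2 b = 0) := by
    have h := hgh (em' F₀ P z)
    rw [hB, hBz, hgz, act_parts D (L := fun x => rf D (a + t • b) (rf D a x)) hρx] at h
    obtain ⟨e1, e2⟩ := parts_unique D h
    obtain ⟨e3, e4⟩ := parts_unique D (rfl : em' F₀ P y1 + θ • em' F₀ P y2 = em' F₀ P y1 + θ • em' F₀ P y2)
    exact ⟨hyfix y1 (e1.symm.trans e3), hyfix y2 (e2.symm.trans e4)⟩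
  obtain ⟨A1, B1, hA1⟩ := hSperp y1 hyy.1.1 hyy.1.2
  obtain ⟨A2, B2, hA2⟩ := hSperp y2 hyy.2.1 hyy.2.2
  by_cases hzu' : rb D u z = 0
  · -- then `z` would be a multiple of `u`
    have hf0 : f ((g : Matrix ι ι F) *ᵥ em' F₀ P z) ((g : Matrix ι ι F) *ᵥ em' F₀ P u) = 0 := by
      rw [hi, ← rb_coe D, hs.symm, hzu']; rfl
    have hne : ((rb D p r : F₀) : F) - θ * (rb D r r : F₀) ≠ 0 := fun h => by
      obtain ⟨e1, e2⟩ := coe_split_unique D (x := rb D p r) (y := -rb D r r) (x' := 0) (y' := 0)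
        (by push_cast; linear_combination h)
      rw [neg_eq_zero] at e2
      rw [e1, e2, mul_zero, mul_zero, sub_zero] at hd
      exact hd rfl
    rw [hgz, hgu, f_mixed D, hA1, hA2] at hf0
    simp only [hs.bilinear.add_left, hs.bilinear.smul_left, hs.symm r p, hpp] at hf0
    push_cast [dl_coe] at hf0
    have hAB : ((B1 : F) + θ * B2) = θ * ((A1 : F) + θ * A2) := by
      refine sub_eq_zero.1 ((mul_eq_zero.1 (show ((B1 : F) + θ * B2 - θ * ((A1 : F) + θ * A2)) *
        (((rb D p r : F₀) : F) - θ * (rb D r r : F₀)) = 0 by linear_combination hf0)).resolve_right hne)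
    have hX : (g : Matrix ι ι F) *ᵥ em' F₀ P z = (g : Matrix ι ι F) *ᵥ (((A1 : F) + θ * A2) • em' F₀ P u) := by
      rw [mulVec_smul, hgz, hgu, hA1, hA2, em_add, em_add, em_smul, em_smul, em_smul, em_smul]
      linear_combination (norm := module) congrArg (fun c : F => c • em' F₀ P r) hAB
    have hz := congrArg (fun X => rp D (((g⁻¹ : GL ι F) : Matrix ι ι F) *ᵥ X)) hX
    simp only [gl_inv_mulVec, (rat_parts D z).1, (parts_smul D _ u).1] at hz
    exact hzu (hz ▸ Submodule.smul_mem _ _ (Submodule.mem_span_singleton_self u))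
  -- a singular partner of `u` with image in the plane
  obtain ⟨v, hvdef⟩ : ∃ v, v = (rb D u z)⁻¹ • z - (rb D ((rb D u z)⁻¹ • z) ((rb D u z)⁻¹ • z) / 2) • u := ⟨_, rfl⟩
  have huv : rb D u v = 1 := by
    rw [hvdef, Orth.sym_sub_right hs, hs.bilinear.smul_right, hs.bilinear.smul_right, hu, mul_zero, sub_zero,
      inv_mul_cancel₀ hzu']
  have hvv : rb D v v = 0 := by
    have h2 := two' D
    simp only [hvdef, Orth.sym_sub_left hs, Orth.sym_sub_right hs, hs.bilinear.smul_left, hs.bilinear.smul_right, hu,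
      hs.symm z u]
    field_simp
    ring
  have hUd : ∀ d, rb D p d = 0 → rb D r d = 0 → f ((g : Matrix ι ι F) *ᵥ em' F₀ P u) (em' F₀ P d) = 0 :=
    fun d h1 h2 => by rw [hgu]; exact perp_parts D h1 h2
  have hvd : ∀ d, rb D p d = 0 → rb D r d = 0 → rb D y1 d = 0 → rb D y2 d = 0 →
      f ((g : Matrix ι ι F) *ᵥ em' F₀ P v) (em' F₀ P d) = 0 := fun d h1 h2 h3 h5 => by
    rw [hvdef, em_sub, em_smul, em_smul, mulVec_sub, mulVec_smul, mulVec_smul, herm_sub_left D.form, D.form.smul_left,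
      D.form.smul_left, hUd d h1 h2, hgz, perp_parts D h3 h5, mul_zero, mul_zero, sub_zero]
  have hgd : ∀ d X, f ((g : Matrix ι ι F) *ᵥ X) (em' F₀ P d) = 0 →
      f (((g⁻¹ : GL ι F) : Matrix ι ι F) *ᵥ em' F₀ P d) X = 0 := fun d X h => by
    rw [← hi, gl_mulVec_inv]; exact herm_swap_zero D.form h
  -- the conjugate torus
  obtain ⟨s, hs0, hs1⟩ := exists_torus hq
  have hvu : rb D v u = 1 := (hs.symm _ _).trans huv
  have hn1 : rb D (u - v) (u - v) = -2 := by
    simp only [Orth.sym_sub_left hs, Orth.sym_sub_right hs, hu, hvv, huv, hvu]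
    ring
  have hn2 : rb D (u - s • v) (u - s • v) = -(2 * s) := by
    simp only [Orth.sym_sub_left hs, Orth.sym_sub_right hs, hs.bilinear.smul_left, hs.bilinear.smul_right, hu, hvv,
      huv, hvu]
    ring
  obtain ⟨τ, hτ, hτx⟩ := exists_two_refl D hHM (d1 := u - v) (d2 := u - s • v) (M := M)
    (by rw [hn1]; exact neg_ne_zero.2 (two' D)) (by rw [hn2]; exact neg_ne_zero.2 (mul_ne_zero (two' D) hs0))
  have hτu : (τ : Matrix ι ι F) *ᵥ em' F₀ P u = (s : F) • em' F₀ P u := by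
    have h2 := two' D
    have e1 : rf D (u - s • v) u = s • v := by
      rw [rf, hn2, Orth.sym_sub_right hs, hs.bilinear.smul_right, hu, huv,
        show 2 * (0 - s * 1) / (-(2 * s)) = 1 by field_simp; ring, one_smul, sub_sub_cancel]
    have e2 : rf D (u - v) (s • v) = s • u := by
      rw [rf, hn1, hs.bilinear.smul_left, Orth.sym_sub_right hs, hvu, hvv,
        show 2 * (s * (1 - 0)) / (-2) = -s by field_simp; ring, neg_smul, sub_neg_eq_add, smul_sub, add_sub_cancel]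
    rw [hτx, e1, e2, em_smul]
  obtain ⟨y, hydef⟩ : ∃ y, y = g * τ * g⁻¹ := ⟨_, rfl⟩
  have hy : y ∈ M := hydef ▸ M.mul_mem (M.mul_mem hg hτ) (M.inv_mem hg)
  have hyi := mem_isoU.1 (hM hy)
  have hyfix' : ∀ d, rb D p d = 0 → rb D r d = 0 → rb D y1 d = 0 → rb D y2 d = 0 →
      (y : Matrix ι ι F) *ᵥ em' F₀ P d = em' F₀ P d := by
    intro d h1 h2 h3 h5
    have k1 := hgd d _ (hUd d h1 h2)
    have k2 := hgd d _ (hvd d h1 h2 h3 h5)
    rw [hydef, gl_mul_mulVec, gl_mul_mulVec, two_refl_fix D hτx ?_ ?_, gl_mulVec_inv]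
    · rw [em_sub, herm_sub_right D.form, k1, k2, sub_zero]
    · rw [em_sub, em_smul, herm_sub_right D.form, herm_smul_right D.form, k1, k2, mul_zero, sub_zero]
  have hya := hyfix' a hpa hra hyy.1.1 hyy.2.1
  have hyb := hyfix' b hpb hrb hyy.1.2 hyy.2.2
  have hyU : (y : Matrix ι ι F) *ᵥ (em' F₀ P p + θ • em' F₀ P r) =
      (s : F) • (em' F₀ P p + θ • em' F₀ P r) := by
    rw [← hgu, hydef, gl_mul_mulVec, gl_mul_mulVec, gl_inv_mulVec, hτu, mulVec_smul]
  have hyS : ∀ x, rb D x a = 0 → rb D x b = 0 →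
      (rb D (rp D ((y : Matrix ι ι F) *ᵥ em' F₀ P x)) a = 0 ∧ rb D (rp D ((y : Matrix ι ι F) *ᵥ em' F₀ P x)) b = 0) ∧
      (rb D (ip D ((y : Matrix ι ι F) *ᵥ em' F₀ P x)) a = 0 ∧
        rb D (ip D ((y : Matrix ι ι F) *ᵥ em' F₀ P x)) b = 0) := by
    intro x hxa hxb
    have k1 : f ((y : Matrix ι ι F) *ᵥ em' F₀ P x) (em' F₀ P a) = 0 := by
      rw [← hya, hyi, ← rb_coe D, hxa]; rfl
    have k2 : f ((y : Matrix ι ι F) *ᵥ em' F₀ P x) (em' F₀ P b) = 0 := by
      rw [← hyb, hyi, ← rb_coe D, hxb]; rfl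
    exact ⟨⟨(parts_perp D k1).1, (parts_perp D k2).1⟩, ⟨(parts_perp D k1).2, (parts_perp D k2).2⟩⟩
  have hSzero : ∀ x, rb D x a = 0 → rb D x b = 0 → rb D x p = 0 → rb D x r = 0 → x = 0 := by
    intro x h1 h2 h3 h5
    obtain ⟨c1, c2, rfl⟩ := hSperp x h1 h2
    rw [hs.bilinear.add_left, hs.bilinear.smul_left, hs.bilinear.smul_left] at h3 h5
    rw [hs.symm r p] at h3
    rw [(mul_eq_zero.1 (show (rb D p p * rb D r r - rb D p r * rb D p r) * c1 = 0 by
        linear_combination rb D r r * h3 - rb D p r * h5)).resolve_left hd,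
      (mul_eq_zero.1 (show (rb D p p * rb D r r - rb D p r * rb D p r) * c2 = 0 by
        linear_combination rb D p p * h5 - rb D p r * h3)).resolve_left hd, zero_smul, zero_smul, add_zero]
  obtain ⟨x, hxa, hxb, hxx⟩ : ∃ x, rb D x a = 0 ∧ rb D x b = 0 ∧ rb D x x ≠ 0 := by
    by_cases hrr : rb D r r = 0
    · refine ⟨p + r, by rw [hs.bilinear.add_left, hpa, hra, add_zero],
        by rw [hs.bilinear.add_left, hpb, hrb, add_zero], fun h => ?_⟩
      rw [hs.bilinear.add_left, hs.bilinear.add_right, hs.bilinear.add_right, hs.symm r p, hpp, hrr] at h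
      have hpr : rb D p r = 0 :=
        (mul_eq_zero.1 (show (2 : F₀) * rb D p r = 0 by linear_combination h)).resolve_left (two' D)
      exact hd (by rw [hrr, hpr]; ring)
    · exact ⟨r, hra, hrb, hrr⟩
  obtain ⟨x0, hx00, hx0a, hx0b, hx0i⟩ : ∃ x0, x0 ≠ 0 ∧ rb D x0 a = 0 ∧ rb D x0 b = 0 ∧
      ip D ((y : Matrix ι ι F) *ᵥ em' F₀ P x0) = 0 := by
    obtain ⟨x1, hx1⟩ : ∃ z, z = rp D ((y : Matrix ι ι F) *ᵥ em' F₀ P x) := ⟨_, rfl⟩
    obtain ⟨x2, hx2⟩ : ∃ z, z = ip D ((y : Matrix ι ι F) *ᵥ em' F₀ P x) := ⟨_, rfl⟩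
    have hyx : (y : Matrix ι ι F) *ᵥ em' F₀ P x = em' F₀ P x1 + θ • em' F₀ P x2 := by rw [hx1, hx2]; exact decomp D _
    rcases eq_or_ne x2 0 with h20 | h20
    · exact ⟨x, fun h => hxx (by rw [h, Orth.sym_zero_left hs]), hxa, hxb, hx2 ▸ h20⟩
    obtain ⟨⟨hx1a, hx1b⟩, hx2a, hx2b⟩ := hyS x hxa hxb
    rw [← hx1] at hx1a hx1b
    rw [← hx2] at hx2a hx2b
    haveI : Fintype F₀ := Fintype.ofFinite _
    obtain ⟨i, j, hij⟩ := CfsgLib.Classical.exists_binary_one (F := F₀) (two' D)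
      (div_ne_zero haa (neg_ne_zero.2 hxx)) (div_ne_zero hbb (neg_ne_zero.2 hxx))
    obtain ⟨a', ha'⟩ : ∃ a', a' = i • a + j • b := ⟨_, rfl⟩
    obtain ⟨a'', ha''⟩ : ∃ a'', a'' = (-(j * rb D b b)) • a + (i * rb D a a) • b := ⟨_, rfl⟩
    have hba : rb D b a = 0 := (hs.symm _ _).trans hab
    have hij' : i * i * rb D a a + j * j * rb D b b = -rb D x x := by
      field_simp at hij
      first | linear_combination hij | linear_combination -hij
    have haa' : rb D a' a' = -rb D x x := by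
      simp only [ha', hs.bilinear.add_left, hs.bilinear.add_right, hs.bilinear.smul_left, hs.bilinear.smul_right,
        hab, hba]
      linear_combination hij'
    have ha'a'' : rb D a' a'' = 0 := by
      simp only [ha', ha'', hs.bilinear.add_left, hs.bilinear.add_right, hs.bilinear.smul_left,
        hs.bilinear.smul_right, hab, hba]
      ring
    have haa'' : rb D a'' a'' = rb D a a * rb D b b * (-rb D x x) := by
      simp only [ha'', hs.bilinear.add_left, hs.bilinear.add_right, hs.bilinear.smul_left,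
        hs.bilinear.smul_right, hab, hba]
      linear_combination rb D a a * rb D b b * hij'
    have hperp : ∀ z, rb D z a = 0 → rb D z b = 0 → rb D z a' = 0 ∧ rb D z a'' = 0 := fun z h1 h2 => by
      constructor <;> simp only [ha', ha'', hs.bilinear.add_right, hs.bilinear.smul_right, h1, h2, mul_zero, add_zero]
    have hya' : (y : Matrix ι ι F) *ᵥ em' F₀ P a' = em' F₀ P a' := by
      rw [ha', em_add, em_smul, em_smul, mulVec_add, mulVec_smul, mulVec_smul, hya, hyb]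
    have hya'' : (y : Matrix ι ι F) *ᵥ em' F₀ P a'' = em' F₀ P a'' := by
      rw [ha'', em_add, em_smul, em_smul, mulVec_add, mulVec_smul, mulVec_smul, hya, hyb]
    obtain ⟨hxa', hxa''⟩ := hperp x hxa hxb
    obtain ⟨hx1a', hx1a''⟩ := hperp x1 hx1a hx1b
    obtain ⟨hx2a', hx2a''⟩ := hperp x2 hx2a hx2b
    have ha'0 : rb D a' a' ≠ 0 := haa' ▸ neg_ne_zero.2 hxx
    have ha''0 : rb D a'' a'' ≠ 0 := haa'' ▸ mul_ne_zero (mul_ne_zero haa hbb) (neg_ne_zero.2 hxx)
    -- a second singular vector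
    have hu'u' : rb D (x + a') (x + a') = 0 := by
      rw [hs.bilinear.add_left, hs.bilinear.add_right, hs.bilinear.add_right, hs.symm a' x, hxa', haa']
      ring
    have hu'0 : x + a' ≠ 0 := fun h => ha'0 (by
      have h1 : rb D (x + a') a' = 0 := by rw [h, Orth.sym_zero_left hs]
      rwa [hs.bilinear.add_left, hxa', zero_add] at h1)
    have hyu' : (y : Matrix ι ι F) *ᵥ em' F₀ P (x + a') = em' F₀ P (x1 + a') + θ • em' F₀ P x2 := by
      rw [em_add, mulVec_add, hyx, hya', em_add]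
      abel
    have hind' : ∀ c d : F₀, c • (x1 + a') + d • x2 = 0 → c = 0 ∧ d = 0 := by
      intro c d h
      have h1 : rb D (c • (x1 + a') + d • x2) a' = 0 := by rw [h, Orth.sym_zero_left hs]
      rw [hs.bilinear.add_left, hs.bilinear.smul_left, hs.bilinear.smul_left, hs.bilinear.add_left, hx1a', hx2a',
        zero_add, mul_zero, add_zero] at h1
      obtain rfl := (mul_eq_zero.1 h1).resolve_right ha'0
      rw [zero_smul, zero_add, smul_eq_zero] at h
      exact ⟨rfl, h.resolve_right h20⟩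
    have hd' := plane_disc D hM hMS hHM hno h4 hy hu'0 hu'u' hyu' hind'
    have h1'' : rb D a'' (x1 + a') = 0 := by
      rw [hs.bilinear.add_right, hs.symm a'' x1, hx1a'', hs.symm a'' a', ha'a'', add_zero]
    have h2'' : rb D a'' x2 = 0 := (hs.symm _ _).trans hx2a''
    obtain ⟨e, he1, he2, hae, hee, hS'⟩ := exists_frame D h4 hd' h1'' h2'' ha''0
    obtain ⟨x', hx'⟩ : ∃ x', x' = rb D x r • p - rb D x p • r := ⟨_, rfl⟩
    have hx'a : rb D x' a = 0 := by
      rw [hx', Orth.sym_sub_left hs, hs.bilinear.smul_left, hs.bilinear.smul_left, hpa, hra, mul_zero, mul_zero,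
        sub_zero]
    have hx'b : rb D x' b = 0 := by
      rw [hx', Orth.sym_sub_left hs, hs.bilinear.smul_left, hs.bilinear.smul_left, hpb, hrb, mul_zero, mul_zero,
        sub_zero]
    have hx'x : rb D x' x = 0 := by
      rw [hx', Orth.sym_sub_left hs, hs.bilinear.smul_left, hs.bilinear.smul_left, hs.symm p x, hs.symm r x]
      ring
    have hx'0 : x' ≠ 0 := fun h => by
      rw [hx', sub_eq_add_neg, ← neg_smul] at h
      obtain ⟨e1, e2⟩ := plane_indep D hd h
      exact hxx (by rw [hSzero x hxa hxb (neg_eq_zero.1 e2) e1, Orth.sym_zero_left hs])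
    obtain ⟨hx'a', hx'a''⟩ := hperp x' hx'a hx'b
    obtain ⟨z1, hz1⟩ : ∃ z, z = rp D ((y : Matrix ι ι F) *ᵥ em' F₀ P x') := ⟨_, rfl⟩
    obtain ⟨z2, hz2⟩ : ∃ z, z = ip D ((y : Matrix ι ι F) *ᵥ em' F₀ P x') := ⟨_, rfl⟩
    obtain ⟨⟨hz1a, hz1b⟩, hz2a, hz2b⟩ := hyS x' hx'a hx'b
    rw [← hz1] at hz1a hz1b
    rw [← hz2] at hz2a hz2b
    obtain ⟨hz1a', hz1a''⟩ := hperp z1 hz1a hz1b
    obtain ⟨hz2a', hz2a''⟩ := hperp z2 hz2a hz2b
    have hyx' : (y : Matrix ι ι F) *ᵥ em' F₀ P (x' + a'') = em' F₀ P (z1 + a'') + θ • em' F₀ P z2 := by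
      rw [em_add, mulVec_add, hya'', decomp D ((y : Matrix ι ι F) *ᵥ em' F₀ P x'), ← hz1, ← hz2, em_add]
      abel
    have hdep := dep D hM hHM hno hq hy hu'0 hu'u' (a0 := x' + a'') (by
      rw [hs.bilinear.add_left, hs.bilinear.add_right, hs.bilinear.add_right, hs.symm x x', hx'x, hxa'',
        hs.symm a' x', hx'a', ha'a'']
      ring) hyu' hyx' h1'' h2'' he1 he2 hae ha''0 hee
    rw [hs.bilinear.add_left, hz1a'', zero_add, hz2a'', mul_zero] at hdep
    obtain ⟨c, d, hcd⟩ := hS' z2 hz2a'' ((mul_eq_zero.1 hdep).resolve_left ha''0)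
    have hc : c = 0 := by
      have h1 := hz2a'
      rw [hcd, hs.bilinear.add_left, hs.bilinear.smul_left, hs.bilinear.smul_left, hs.bilinear.add_left, hx1a', hx2a',
        zero_add, mul_zero, add_zero] at h1
      exact (mul_eq_zero.1 h1).resolve_right ha'0
    rw [hc, zero_smul, zero_add] at hcd
    refine ⟨x' - d • x, fun h => ?_, ?_, ?_, ?_⟩
    · have h1 : rb D (x' - d • x) x = 0 := by rw [h, Orth.sym_zero_left hs]
      rw [Orth.sym_sub_left hs, hs.bilinear.smul_left, hx'x, zero_sub, neg_eq_zero] at h1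
      rw [(mul_eq_zero.1 h1).resolve_right hxx, zero_smul, sub_zero] at h
      exact hx'0 h
    · rw [Orth.sym_sub_left hs, hs.bilinear.smul_left, hx'a, hxa, mul_zero, sub_zero]
    · rw [Orth.sym_sub_left hs, hs.bilinear.smul_left, hx'b, hxb, mul_zero, sub_zero]
    · rw [em_sub, em_smul, mulVec_sub, mulVec_smul, ← Subfield.smul_def, map_sub, map_smul, ← hz2, ← hx2, hcd,
        sub_self]
  -- the torus cannot fix such a vector
  obtain ⟨w, hw⟩ : ∃ w, w = rp D ((y : Matrix ι ι F) *ᵥ em' F₀ P x0) := ⟨_, rfl⟩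
  have hyx0 : (y : Matrix ι ι F) *ᵥ em' F₀ P x0 = (1 : F) • em' F₀ P w := by
    rw [one_smul, hw]
    conv_lhs => rw [decomp D ((y : Matrix ι ι F) *ᵥ em' F₀ P x0), hx0i, em_zero, smul_zero, add_zero]
  have hss : ∀ A : F₀, s * s * A = A → A = 0 := fun A h =>
    (mul_eq_zero.1 (show (s * s - 1) * A = 0 by linear_combination h)).resolve_left (sub_ne_zero.2 hs1)
  by_cases hx0x0 : rb D x0 x0 = 0
  · have himg : ∀ z, (y : Matrix ι ι F) *ᵥ em' F₀ P z = em' F₀ P (rp D ((y : Matrix ι ι F) *ᵥ em' F₀ P z)) :=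
      fun z => by
        have h := image_of_line D hM hMS hHM hno h4 hy hx00 hx0x0 hyx0 z
        rw [map_one, one_smul] at h
        conv_lhs => rw [decomp D ((y : Matrix ι ι F) *ᵥ em' F₀ P z), h, em_zero, smul_zero, add_zero]
    obtain ⟨p1, hp1⟩ : ∃ p1, p1 = rp D ((y : Matrix ι ι F) *ᵥ em' F₀ P p) := ⟨_, rfl⟩
    obtain ⟨r1, hr1'⟩ : ∃ r1, r1 = rp D ((y : Matrix ι ι F) *ᵥ em' F₀ P r) := ⟨_, rfl⟩
    have hyp : (y : Matrix ι ι F) *ᵥ em' F₀ P p = em' F₀ P p1 := hp1 ▸ himg p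
    have hyr : (y : Matrix ι ι F) *ᵥ em' F₀ P r = em' F₀ P r1 := hr1' ▸ himg r
    have h := hyU
    rw [mulVec_add, mulVec_smul, hyp, hyr, smul_add, smul_comm, ← em_smul, ← em_smul] at h
    obtain ⟨k1, k2⟩ := parts_unique D h
    obtain ⟨k3, k4⟩ := parts_unique D (rfl : em' F₀ P p1 + θ • em' F₀ P r1 = em' F₀ P p1 + θ • em' F₀ P r1)
    have ep : p1 = s • p := k3.symm.trans k1
    have er : r1 = s • r := k4.symm.trans k2
    have hiso : ∀ z w z' w', (y : Matrix ι ι F) *ᵥ em' F₀ P z = em' F₀ P z' →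
        (y : Matrix ι ι F) *ᵥ em' F₀ P w = em' F₀ P w' → rb D z' w' = rb D z w := fun z w z' w' e1 e2 =>
      Subtype.ext (by rw [rb_coe, rb_coe, ← e1, ← e2, hyi])
    have g1 := hiso r r r1 r1 hyr hyr
    have g2 := hiso p r p1 r1 hyp hyr
    rw [er, hs.bilinear.smul_left, hs.bilinear.smul_right, ← mul_assoc] at g1
    rw [ep, er, hs.bilinear.smul_left, hs.bilinear.smul_right, ← mul_assoc] at g2
    rw [hss _ g1, hss _ g2, mul_zero, mul_zero, sub_zero] at hd
    exact hd rfl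
  · have h := hyi (em' F₀ P x0) (em' F₀ P p + θ • em' F₀ P r)
    rw [hyx0, one_smul, hyU, herm_smul_right D.form, herm_add_right D.form, herm_add_right D.form,
      herm_smul_right D.form, herm_smul_right D.form, sfix D, D.bar, ← rb_coe D, ← rb_coe D, ← rb_coe D,
      ← rb_coe D] at h
    obtain ⟨e1, e2⟩ := coe_split_unique D (x := rb D (s • w - x0) p) (y := -rb D (s • w - x0) r) (x' := 0) (y' := 0)
      (by
        simp only [Orth.sym_sub_left hs, hs.bilinear.smul_left]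
        push_cast
        linear_combination h)
    rw [neg_eq_zero] at e2
    obtain ⟨⟨hwa, hwb⟩, -⟩ := hyS x0 hx0a hx0b
    rw [← hw] at hwa hwb
    have hsw : s • w - x0 = 0 := hSzero _
      (by rw [Orth.sym_sub_left hs, hs.bilinear.smul_left, hwa, hx0a, mul_zero, sub_zero])
      (by rw [Orth.sym_sub_left hs, hs.bilinear.smul_left, hwb, hx0b, mul_zero, sub_zero]) e1 e2
    rw [sub_eq_zero] at hsw
    have hwx : rb D w w = rb D x0 x0 := Subtype.ext (by
      rw [rb_coe, rb_coe, ← hyi (em' F₀ P x0) (em' F₀ P x0), hyx0, one_smul])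
    refine hx0x0 (hss _ ?_)
    conv_rhs => rw [← hsw, hs.bilinear.smul_left, hs.bilinear.smul_right, hwx, ← mul_assoc]

end CfsgLib.Perm.Trans.Unit.ORat
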